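import Cfsg.Agent.H425.Torus
import Cfsg.Agent.H425.KFix_m3
import Cfsg.Agent.H390.Cocl
import Cfsg.Agent.H104.Closed_m3
import Cfsg.Agent.ClassicalGeometry.SympInvolutions
import Cfsg.Agent.FastGrp
import Cfsg.Agent.Prune
set_option linter.all false
prune_inst 0x7f00000000000000000000000000000000000000000000000000000000000000000000000000000000000000000000000000000000000000000000000000000000000000000000000000000000000000003fffffffffffffffffffffffffffbeffbdffffffff
open scoped Cfsg.Agent.FastGrp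

/-!
# Siegel subgroups of the classical groups (helper425)

`q` odd, `F` of characteristic `p`, `r` an odd prime divisor of `q ^ e - 1`, `1 ≤ e ≤ m`: `Mov S p r` for
`S = PΩ⁺_{2m}(q)` (`m ≥ 4`), `PΩ_{2m+1}(q)`, `PΩ⁻_{2m+2}(q)`, `PSp_{2m}(q)` (`mov_plus`, `mov_odd`, `mov_minus`, `mov_psp`).
-/

set_option autoImplicit false

namespace Cfsg.Agent.H425.Siegel

open Matrix Subgroup
open Cfsg.Agent.H425.KStep Cfsg.Agent.H425.Torus

/-- a group acting on a vector space of characteristic `p` -/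
theorem mov_of_homs {O A V : Type*} [Group O] [Group A] [AddCommGroup V] {p r : ℕ} (hV : ∀ v : V, p • v = 0)
    (d : A →* O) (u : Multiplicative V →* O) (hu : Function.Injective u) (act : A → V → V)
    (h : ∀ a v, d a * u (Multiplicative.ofAdd v) * (d a)⁻¹ = u (Multiplicative.ofAdd (act a v))) {a : A}
    (ha : orderOf (d a) = r) {v : V} (hv : act a v ≠ v) : Mov O p r := by
  refine ⟨u.range, d a, ?_, ha, ?_, u (Multiplicative.ofAdd v), ⟨_, rfl⟩, ?_⟩
  · rintro ⟨_, w, rfl⟩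
    refine ⟨1, Subtype.ext ?_⟩
    change (u w) ^ p ^ 1 = 1
    rw [pow_one, ← map_pow]
    have h1 : w ^ p = 1 := hV (Multiplicative.toAdd w)
    rw [h1, map_one]
  · rintro _ ⟨w, rfl⟩
    exact ⟨Multiplicative.ofAdd (act a (Multiplicative.toAdd w)), (h a (Multiplicative.toAdd w)).symm⟩
  · intro hc
    apply hv
    have h1 := h a v
    rw [hc, mul_inv_cancel_right] at h1
    exact (Multiplicative.ofAdd.injective (hu h1)).symm

/-! ### quotients and subgroups -/

/-- passing to a normal subgroup containing the elements of odd order -/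
theorem mov_sub {O : Type*} [Group O] [Finite O] (N : Subgroup O) (hN : ∀ (g : O) (m : ℕ), Odd m → g ^ m = 1 → g ∈ N)
    {p r : ℕ} (hp : p.Prime) (hp2 : p ≠ 2) (hr : r.Prime) (hr2 : r ≠ 2) (h : Mov O p r) : Mov N p r := by
  obtain ⟨P, x, hP, hx, hn, a, ha, hne⟩ := h
  have hPN : P ≤ N := by
    intro g hg
    obtain ⟨k, hk⟩ := hP ⟨g, hg⟩
    exact hN g (p ^ k) (hp.odd_of_ne_two hp2).pow (congrArg Subtype.val hk)
  have hxN : x ∈ N := hN x r (hr.odd_of_ne_two hr2) (by rw [← hx, pow_orderOf_eq_one])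
  refine ⟨P.subgroupOf N, ⟨x, hxN⟩, ?_, by rw [Subgroup.orderOf_mk, hx], fun b hb => hn b hb, ⟨a, hPN ha⟩, ha, ?_⟩
  · exact hP.of_injective (subgroupOfEquivOfLe hPN).toMonoidHom (subgroupOfEquivOfLe hPN).injective
  · intro h
    exact hne (congrArg Subtype.val h)

/-- passing to the quotient by a normal subgroup of order prime to `p` -/
theorem mov_quot {O : Type*} [Group O] [Finite O] (Z : Subgroup O) [Z.Normal] {p r : ℕ} (hZ : ¬ p ∣ Nat.card Z)
    (hp : p.Prime) (hr : r.Prime) (h : Mov O p r) : Mov (O ⧸ Z) p r := by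
  obtain ⟨P, x, hP, hx, hn, a, ha, hne⟩ := h
  have hc : QuotientGroup.mk' Z x * QuotientGroup.mk' Z a ≠ QuotientGroup.mk' Z a * QuotientGroup.mk' Z x := by
    intro hc
    have h1 : (x * a * x⁻¹) * a⁻¹ ∈ Z := by
      rw [← QuotientGroup.eq_one_iff]
      change QuotientGroup.mk' Z ((x * a * x⁻¹) * a⁻¹) = 1
      rw [map_mul, map_mul, map_mul, map_inv, map_inv, hc]
      group
    have h2 : (x * a * x⁻¹) * a⁻¹ ∈ P := P.mul_mem (hn a ha) (P.inv_mem ha)
    obtain ⟨k, hk⟩ := hP ⟨_, h2⟩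
    have h3 : orderOf ((x * a * x⁻¹) * a⁻¹) ∣ Nat.card Z := by
      rw [← Subgroup.orderOf_mk _ h1]
      exact _root_.orderOf_dvd_natCard _
    have h4 : orderOf ((x * a * x⁻¹) * a⁻¹) ∣ p ^ k := orderOf_dvd_of_pow_eq_one (congrArg Subtype.val hk)
    have h5 : Nat.Coprime (Nat.card Z) (p ^ k) :=
      Nat.Coprime.pow_right _ ((Nat.Prime.coprime_iff_not_dvd hp).2 hZ).symm
    have h6 := orderOf_eq_one_iff.1 (Nat.eq_one_of_dvd_coprimes h5 h3 h4)
    rw [mul_inv_eq_one, mul_inv_eq_iff_eq_mul] at h6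
    exact hne h6
  have : Fact r.Prime := ⟨hr⟩
  refine ⟨P.map (QuotientGroup.mk' Z), QuotientGroup.mk' Z x, hP.map _, ?_, ?_, QuotientGroup.mk' Z a, ⟨a, ha, rfl⟩, hc⟩
  · refine orderOf_eq_prime ?_ ?_
    · rw [← map_pow, ← hx, pow_orderOf_eq_one, map_one]
    · intro h1
      apply hc
      rw [h1, one_mul, mul_one]
  · rintro _ ⟨b, hb, rfl⟩
    exact ⟨x * b * x⁻¹, hn b hb, by rw [map_mul, map_mul, map_inv]⟩

theorem not_dvd_card_of_sq {Z : Type*} [Group Z] [Finite Z] {p : ℕ} (hp : p.Prime) (hp2 : p ≠ 2)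
    (hZ : ∀ z : Z, z ^ 2 = 1) : ¬ p ∣ Nat.card Z := by
  intro h
  have : Fact p.Prime := ⟨hp⟩
  obtain ⟨z, hz⟩ := exists_prime_orderOf_dvd_card' p h
  have h1 := orderOf_dvd_of_pow_eq_one (hZ z)
  rw [hz] at h1
  exact hp2 ((Nat.prime_dvd_prime_iff_eq hp Nat.prime_two).1 h1)

/-- from the isometry group to `PΩ` -/
theorem mov_pomega {F : Type*} [Field F] [Finite F] {ι : Type} [Fintype ι] [DecidableEq ι] {Q : QuadraticForm F (ι → F)}
    (hD : Cfsg.Agent.H390.Lift.Data Q) {p r : ℕ} (hp : p.Prime) (hp2 : p ≠ 2) (hr : r.Prime) (hr2 : r ≠ 2)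
    (h : Mov (Cfsg.isometryGroup F ⇑Q) p r) : Mov (Cfsg.POmega F ⇑Q) p r :=
  mov_quot _ (not_dvd_card_of_sq hp hp2 fun z => Subtype.ext (Cfsg.Agent.H390.Lift.center_sq hD z z.2)) hp hr
    (mov_sub (Cfsg.Omega F ⇑Q) (fun _ _ hm hg => Cfsg.Agent.H390.Lift.mem_of_odd _ hD.idx hm hg) hp hp2 hr hr2 h)

/-! ### matrices -/

section mat

variable {F : Type*} [Field F] {m : ℕ}

/-- the action on the off-diagonal block -/
def actM (A : GL (Fin m) F) (B : Matrix (Fin m) (Fin m) F) : Matrix (Fin m) (Fin m) F :=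
  (A : Matrix (Fin m) (Fin m) F) * B * (A : Matrix (Fin m) (Fin m) F)ᵀ

theorem mul_eq_of_act {A : GL (Fin m) F} {B : Matrix (Fin m) (Fin m) F} (h : actM A B = B) :
    (A : Matrix (Fin m) (Fin m) F) * B = B * ((A⁻¹ : GL (Fin m) F) : Matrix (Fin m) (Fin m) F)ᵀ := by
  have h1 : (A : Matrix (Fin m) (Fin m) F)ᵀ * ((A⁻¹ : GL (Fin m) F) : Matrix (Fin m) (Fin m) F)ᵀ = 1 := by
    rw [← Matrix.transpose_mul, ← Units.val_mul, inv_mul_cancel, Units.val_one, Matrix.transpose_one]
  have h2 : actM A B * ((A⁻¹ : GL (Fin m) F) : Matrix (Fin m) (Fin m) F)ᵀ =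
      B * ((A⁻¹ : GL (Fin m) F) : Matrix (Fin m) (Fin m) F)ᵀ := by rw [h]
  rwa [actM, Matrix.mul_assoc, h1, Matrix.mul_one] at h2

/-- a skew-symmetric matrix moved by `A` -/
theorem exists_skew (hm : 3 ≤ m) {A : GL (Fin m) F} (hA : A ^ 2 ≠ 1) :
    ∃ B : Matrix (Fin m) (Fin m) F, Bᵀ = -B ∧ actM A B ≠ B := by
  by_contra hcon
  push Not at hcon
  set M : Matrix (Fin m) (Fin m) F := (A : Matrix (Fin m) (Fin m) F) with hM
  set D : Matrix (Fin m) (Fin m) F := ((A⁻¹ : GL (Fin m) F) : Matrix (Fin m) (Fin m) F)ᵀ with hD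
  have key : ∀ i j : Fin m, M * (single i j 1 - single j i 1) = (single i j 1 - single j i 1) * D := by
    intro i j
    refine mul_eq_of_act (hcon _ ?_)
    rw [Matrix.transpose_sub, Matrix.transpose_single, Matrix.transpose_single, neg_sub]
  -- `M` is diagonal
  have third : ∀ i k : Fin m, ∃ j : Fin m, j ≠ i ∧ j ≠ k := by
    intro i k
    have : 2 < Fintype.card (Fin m) := by rw [Fintype.card_fin]; omega
    by_contra hc
    push Not at hc
    have h1 : (Finset.univ : Finset (Fin m)) ⊆ {i, k} := by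
      intro j _
      rw [Finset.mem_insert, Finset.mem_singleton]
      by_cases hj : j = i
      · exact Or.inl hj
      · exact Or.inr (hc j hj)
    have h2 := Finset.card_le_card h1
    have h3 := Finset.card_le_two (a := i) (b := k)
    rw [Finset.card_univ] at h2
    omega
  have hdiag : ∀ k i : Fin m, k ≠ i → M k i = 0 := by
    intro k i hki
    obtain ⟨j, hji, hjk⟩ := third i k
    have h1 := congrFun (congrFun (key i j) k) j
    rw [Matrix.mul_sub, Matrix.sub_mul, Matrix.sub_apply, Matrix.sub_apply] at h1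
    rw [Matrix.mul_single_apply_same, Matrix.mul_single_apply_of_ne _ _ _ _ _ hji,
      Matrix.single_mul_apply_of_ne _ _ _ _ _ hki, Matrix.single_mul_apply_of_ne _ _ _ _ _ (Ne.symm hjk)] at h1
    simpa using h1
  have hval : ∀ i j : Fin m, i ≠ j → M i i = D j j := by
    intro i j hij
    have h1 := congrFun (congrFun (key i j) i) j
    rw [Matrix.mul_sub, Matrix.sub_mul, Matrix.sub_apply, Matrix.sub_apply] at h1
    rw [Matrix.mul_single_apply_same, Matrix.mul_single_apply_of_ne _ _ _ _ _ (Ne.symm hij),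
      Matrix.single_mul_apply_same, Matrix.single_mul_apply_of_ne _ _ _ _ _ hij] at h1
    simpa using h1
  have hinv : ∀ i : Fin m, M i i * D i i = 1 := by
    intro i
    have h1 : M * Dᵀ = 1 := by
      rw [hD, Matrix.transpose_transpose, hM, ← Units.val_mul, mul_inv_cancel, Units.val_one]
    have h2 := congrFun (congrFun h1 i) i
    rw [Matrix.one_apply_eq, Matrix.mul_apply, Finset.sum_eq_single i] at h2
    · rwa [Matrix.transpose_apply] at h2
    · intro k _ hk
      rw [hdiag i k (Ne.symm hk), zero_mul]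
    · intro h
      exact absurd (Finset.mem_univ i) h
  apply hA
  have hsq : ∀ i : Fin m, M i i * M i i = 1 := by
    intro i
    obtain ⟨j, hji, -⟩ := third i i
    obtain ⟨k, hki, hkj⟩ := third i j
    -- `M i i = D j j`, `M k k = D j j`, `M k k = D i i`
    have h1 := hval i j (Ne.symm hji)
    have h2 := hval k j hkj
    have h3 := hval k i hki
    have h4 : M i i = D i i := by rw [h1, ← h2, h3]
    have h5 := hinv i
    rwa [← h4] at h5
  apply Units.ext
  rw [Units.val_pow_eq_pow_val, ← hM, Units.val_one, pow_two]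
  ext i j
  rw [Matrix.mul_apply]
  by_cases hij : i = j
  · subst hij
    rw [Matrix.one_apply_eq, Finset.sum_eq_single i]
    · exact hsq i
    · intro k _ hk
      rw [hdiag i k (Ne.symm hk), zero_mul]
    · intro h
      exact absurd (Finset.mem_univ i) h
  · rw [Matrix.one_apply_ne hij]
    apply Finset.sum_eq_zero
    intro k _
    by_cases hk : k = i
    · subst hk
      rw [hdiag k j hij, mul_zero]
    · rw [hdiag i k (Ne.symm hk), zero_mul]

/-- a symmetric matrix moved by `A` -/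
theorem exists_sym {A : GL (Fin m) F} (hA : A ^ 2 ≠ 1) :
    ∃ B : Matrix (Fin m) (Fin m) F, Bᵀ = B ∧ actM A B ≠ B := by
  by_contra hcon
  push Not at hcon
  set M : Matrix (Fin m) (Fin m) F := (A : Matrix (Fin m) (Fin m) F) with hM
  set D : Matrix (Fin m) (Fin m) F := ((A⁻¹ : GL (Fin m) F) : Matrix (Fin m) (Fin m) F)ᵀ with hD
  have h1 : M = D := by
    have h := mul_eq_of_act (hcon 1 Matrix.transpose_one)
    rwa [Matrix.mul_one, Matrix.one_mul] at h
  have key : ∀ i : Fin m, M * single i i 1 = single i i 1 * M := by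
    intro i
    have h := mul_eq_of_act (hcon (single i i 1) (Matrix.transpose_single i i 1))
    rw [← hM, ← hD, ← h1] at h
    exact h
  have hdiag : ∀ k i : Fin m, k ≠ i → M k i = 0 := by
    intro k i hki
    have h2 := congrFun (congrFun (key i) k) i
    rw [Matrix.mul_single_apply_same, Matrix.single_mul_apply_of_ne _ _ _ _ _ hki] at h2
    simpa using h2
  have hMt : Mᵀ = M := by
    ext i j
    rw [Matrix.transpose_apply]
    by_cases hij : i = j
    · rw [hij]
    · rw [hdiag i j hij, hdiag j i (Ne.symm hij)]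
  apply hA
  apply Units.ext
  rw [Units.val_pow_eq_pow_val, ← hM, Units.val_one, pow_two]
  have h2 : M * Dᵀ = 1 := by
    rw [hD, Matrix.transpose_transpose, hM, ← Units.val_mul, mul_inv_cancel, Units.val_one]
  rwa [← h1, hMt] at h2

/-- an element of order `r` of `GL_m(q)` -/
theorem exists_gl [Fintype F] {e r : ℕ} (hr : r.Prime) (he1 : 1 ≤ e) (he : e ≤ m) (h : r ∣ Fintype.card F ^ e - 1) :
    ∃ A : GL (Fin m) F, orderOf A = r := by
  have : Fact r.Prime := ⟨hr⟩
  have h1 : r ∣ Nat.card (GL (Fin m) F) := by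
    rw [Matrix.card_GL_field]
    have h2 : m - e < m := by omega
    refine Dvd.dvd.trans ?_ (Finset.dvd_prod_of_mem _ (Finset.mem_univ (⟨m - e, h2⟩ : Fin m)))
    have h3 : Fintype.card F ^ m - Fintype.card F ^ (m - e) = Fintype.card F ^ (m - e) * (Fintype.card F ^ e - 1) := by
      rw [Nat.mul_sub, mul_one, ← pow_add, Nat.sub_add_cancel he]
    change r ∣ Fintype.card F ^ m - Fintype.card F ^ (m - e)
    rw [h3]
    exact Dvd.dvd.mul_left h _
  have : Finite (GL (Fin m) F) := inferInstance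
  exact exists_prime_orderOf_dvd_card' r h1

theorem sq_ne_one {A : GL (Fin m) F} {r : ℕ} (hr : r.Prime) (hr2 : r ≠ 2) (h : orderOf A = r) : A ^ 2 ≠ 1 := by
  intro h2
  have h3 := orderOf_dvd_of_pow_eq_one h2
  rw [h] at h3
  exact hr2 ((Nat.prime_dvd_prime_iff_eq hr Nat.prime_two).1 h3)

/-- skew-symmetric matrices -/
def skw (m : ℕ) (F : Type*) [Field F] : AddSubgroup (Matrix (Fin m) (Fin m) F) where
  carrier := {B | Bᵀ = -B}
  add_mem' := by
    intro a b ha hb
    have ha' : aᵀ = -a := ha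
    have hb' : bᵀ = -b := hb
    change (a + b)ᵀ = -(a + b)
    rw [Matrix.transpose_add, ha', hb', neg_add]
  zero_mem' := by
    change (0 : Matrix (Fin m) (Fin m) F)ᵀ = -0
    rw [Matrix.transpose_zero, neg_zero]
  neg_mem' := by
    intro a ha
    have ha' : aᵀ = -a := ha
    change (-a)ᵀ = - -a
    rw [Matrix.transpose_neg, ha']

/-- symmetric matrices -/
def sym (m : ℕ) (F : Type*) [Field F] : AddSubgroup (Matrix (Fin m) (Fin m) F) where
  carrier := {B | Bᵀ = B}
  add_mem' := by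
    intro a b ha hb
    have ha' : aᵀ = a := ha
    have hb' : bᵀ = b := hb
    change (a + b)ᵀ = a + b
    rw [Matrix.transpose_add, ha', hb']
  zero_mem' := Matrix.transpose_zero
  neg_mem' := by
    intro a ha
    have ha' : aᵀ = a := ha
    change (-a)ᵀ = -a
    rw [Matrix.transpose_neg, ha']

theorem actM_transpose (A : GL (Fin m) F) (B : Matrix (Fin m) (Fin m) F) : (actM A B)ᵀ = actM A Bᵀ := by
  rw [actM, actM, Matrix.transpose_mul, Matrix.transpose_mul, Matrix.transpose_transpose, Matrix.mul_assoc]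

theorem actM_neg (A : GL (Fin m) F) (B : Matrix (Fin m) (Fin m) F) : actM A (-B) = -actM A B := by
  rw [actM, actM, Matrix.mul_neg, Matrix.neg_mul]

/-- `B ↦ [1 B; 0 1]` -/
def uni (m : ℕ) (F : Type*) [Field F] : Multiplicative (Matrix (Fin m) (Fin m) F) →* GL (Fin m ⊕ Fin m) F where
  toFun B := ⟨fromBlocks 1 (Multiplicative.toAdd B) 0 1, fromBlocks 1 (-(Multiplicative.toAdd B)) 0 1,
    by rw [fromBlocks_multiply]; simp, by rw [fromBlocks_multiply]; simp⟩
  map_one' := by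
    ext1
    simp
  map_mul' A B := by
    ext1
    simp only [Units.val_mul, fromBlocks_multiply, toAdd_mul]
    simp [add_comm]

theorem coe_uni (B : Matrix (Fin m) (Fin m) F) : ((uni m F (Multiplicative.ofAdd B) : GL (Fin m ⊕ Fin m) F) :
    Matrix (Fin m ⊕ Fin m) (Fin m ⊕ Fin m) F) = fromBlocks 1 B 0 1 := rfl

theorem uni_mem (h2 : (2 : F) ≠ 0) {B : Matrix (Fin m) (Fin m) F} (hB : Bᵀ = -B) :
    uni m F (Multiplicative.ofAdd B) ∈ Cfsg.isometryGroup F (Cfsg.quadFormPlus m F) := by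
  rw [Cfsg.Agent.LieClassical.OmegaReindex.mem_isometryGroup]
  intro v
  rw [quadFormPlus_eq_dotProduct, quadFormPlus_eq_dotProduct, coe_uni, fromBlocks_mulVec]
  simp only [Matrix.zero_mulVec, zero_add, Sum.elim_comp_inl, Sum.elim_comp_inr, Matrix.one_mulVec]
  rw [add_dotProduct]
  have h3 : (B *ᵥ (v ∘ Sum.inr)) ⬝ᵥ (v ∘ Sum.inr) = 0 := by
    have h4 : (B *ᵥ (v ∘ Sum.inr)) ⬝ᵥ (v ∘ Sum.inr) = -((B *ᵥ (v ∘ Sum.inr)) ⬝ᵥ (v ∘ Sum.inr)) := by
      conv_lhs => rw [dotProduct_comm, Matrix.dotProduct_mulVec, ← Matrix.mulVec_transpose, hB, Matrix.neg_mulVec,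
        neg_dotProduct]
    have h5 : (2 : F) * ((B *ᵥ (v ∘ Sum.inr)) ⬝ᵥ (v ∘ Sum.inr)) = 0 := by linear_combination h4
    exact (mul_eq_zero.1 h5).resolve_left h2
  rw [h3, add_zero]

/-- the unipotent radical -/
def uniO (m : ℕ) (F : Type*) [Field F] (h2 : (2 : F) ≠ 0) :
    Multiplicative (skw m F) →* Cfsg.isometryGroup F (Cfsg.quadFormPlus m F) where
  toFun B := ⟨uni m F (Multiplicative.ofAdd ((Multiplicative.toAdd B : skw m F) : Matrix (Fin m) (Fin m) F)),
    uni_mem h2 (Multiplicative.toAdd B : skw m F).2⟩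
  map_one' := by
    apply Subtype.ext
    exact map_one (uni m F)
  map_mul' A B := by
    apply Subtype.ext
    exact map_mul (uni m F) _ _

theorem uniO_injective (h2 : (2 : F) ≠ 0) : Function.Injective (uniO m F h2) := by
  intro A B h
  have h1 := congrArg (fun g : Cfsg.isometryGroup F (Cfsg.quadFormPlus m F) =>
    ((g : GL (Fin m ⊕ Fin m) F) : Matrix (Fin m ⊕ Fin m) (Fin m ⊕ Fin m) F)) h
  have h3 : fromBlocks 1 ((Multiplicative.toAdd A : skw m F) : Matrix (Fin m) (Fin m) F) 0 1 =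
    fromBlocks 1 ((Multiplicative.toAdd B : skw m F) : Matrix (Fin m) (Fin m) F) 0 1 := h1
  exact Subtype.ext (fromBlocks_inj.1 h3).2.1

theorem conj_blocks (A : GL (Fin m) F) (B : Matrix (Fin m) (Fin m) F) :
    (fromBlocks (A : Matrix (Fin m) (Fin m) F) 0 0 ((A⁻¹ : GL (Fin m) F) : Matrix (Fin m) (Fin m) F)ᵀ) *
      fromBlocks 1 B 0 1 = fromBlocks 1 (actM A B) 0 1 *
      (fromBlocks (A : Matrix (Fin m) (Fin m) F) 0 0 ((A⁻¹ : GL (Fin m) F) : Matrix (Fin m) (Fin m) F)ᵀ) := by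
  have h1 : (A : Matrix (Fin m) (Fin m) F)ᵀ * ((A⁻¹ : GL (Fin m) F) : Matrix (Fin m) (Fin m) F)ᵀ = 1 := by
    rw [← Matrix.transpose_mul, ← Units.val_mul, inv_mul_cancel, Units.val_one, Matrix.transpose_one]
  rw [fromBlocks_multiply, fromBlocks_multiply, actM]
  simp only [Matrix.mul_one, Matrix.mul_zero, Matrix.zero_mul, add_zero, zero_add, Matrix.one_mul]
  rw [Matrix.mul_assoc _ _ _ᵀ, h1, Matrix.mul_one]

/-- **the isometry group of plus type** -/
theorem mov_isom [Fintype F] {p : ℕ} [CharP F p] (h2 : (2 : F) ≠ 0) (hm : 3 ≤ m) {e r : ℕ} (hr : r.Prime)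
    (hr2 : r ≠ 2) (he1 : 1 ≤ e) (he : e ≤ m) (h : r ∣ Fintype.card F ^ e - 1) :
    Mov (Cfsg.isometryGroup F (Cfsg.quadFormPlus m F)) p r := by
  obtain ⟨A, hA⟩ := exists_gl (F := F) hr he1 he h
  obtain ⟨B, hB, hne⟩ := exists_skew hm (sq_ne_one hr hr2 hA)
  have hact : ∀ (A : GL (Fin m) F) (B : skw m F), actM A B ∈ skw m F := by
    intro A B
    change (actM A B)ᵀ = -actM A B
    have hB : (B : Matrix (Fin m) (Fin m) F)ᵀ = -B := B.2
    rw [actM_transpose, hB, actM_neg]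
  refine mov_of_homs (V := skw m F) (A := GL (Fin m) F) (p := p) ?_ (dg m F) (uniO m F h2) (uniO_injective h2)
    (fun A B => ⟨actM A B, hact A B⟩) ?_ (a := A) (by rw [orderOf_injective _ dg_injective, hA]) (v := ⟨B, hB⟩) ?_
  · intro v
    apply Subtype.ext
    change p • (v : Matrix (Fin m) (Fin m) F) = 0
    rw [← Nat.cast_smul_eq_nsmul F, CharP.cast_eq_zero, zero_smul]
  · intro A B
    rw [mul_inv_eq_iff_eq_mul]
    apply Subtype.ext
    apply Units.ext
    exact conj_blocks A B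
  · intro h
    exact hne (congrArg Subtype.val h)

/-! ### the symplectic group -/

theorem dgSp_mem (A : GL (Fin m) F) : (fromBlocks (A : Matrix (Fin m) (Fin m) F) 0 0
    ((A⁻¹ : GL (Fin m) F) : Matrix (Fin m) (Fin m) F)ᵀ) ∈ Matrix.symplecticGroup (Fin m) F := by
  rw [SymplecticGroup.mem_iff, Matrix.J, fromBlocks_transpose, fromBlocks_multiply, fromBlocks_multiply]
  have h1 : ((A⁻¹ : GL (Fin m) F) : Matrix (Fin m) (Fin m) F)ᵀ * (A : Matrix (Fin m) (Fin m) F)ᵀ = 1 := by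
    rw [← Matrix.transpose_mul, ← Units.val_mul, mul_inv_cancel, Units.val_one, Matrix.transpose_one]
  have h2 : (A : Matrix (Fin m) (Fin m) F) * ((A⁻¹ : GL (Fin m) F) : Matrix (Fin m) (Fin m) F) = 1 := by
    rw [← Units.val_mul, mul_inv_cancel, Units.val_one]
  simp only [Matrix.transpose_zero, Matrix.transpose_transpose, Matrix.mul_zero, Matrix.zero_mul, add_zero, zero_add,
    Matrix.mul_one, Matrix.mul_neg, Matrix.neg_mul, h1, h2, neg_zero]

/-- `A ↦ diag(A, A⁻ᵀ)` -/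
def dgSp (m : ℕ) (F : Type*) [Field F] : GL (Fin m) F →* Matrix.symplecticGroup (Fin m) F where
  toFun A := ⟨_, dgSp_mem A⟩
  map_one' := by
    apply Subtype.ext
    change fromBlocks ((1 : GL (Fin m) F) : Matrix (Fin m) (Fin m) F) 0 0
      (((1 : GL (Fin m) F)⁻¹ : GL (Fin m) F) : Matrix (Fin m) (Fin m) F)ᵀ = 1
    simp
  map_mul' A B := by
    apply Subtype.ext
    change fromBlocks ((A * B : GL (Fin m) F) : Matrix (Fin m) (Fin m) F) 0 0
      (((A * B : GL (Fin m) F)⁻¹ : GL (Fin m) F) : Matrix (Fin m) (Fin m) F)ᵀ =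
      fromBlocks (A : Matrix (Fin m) (Fin m) F) 0 0 ((A⁻¹ : GL (Fin m) F) : Matrix (Fin m) (Fin m) F)ᵀ *
      fromBlocks (B : Matrix (Fin m) (Fin m) F) 0 0 ((B⁻¹ : GL (Fin m) F) : Matrix (Fin m) (Fin m) F)ᵀ
    simp only [Units.val_mul, fromBlocks_multiply, _root_.mul_inv_rev, Matrix.transpose_mul]
    simp

theorem dgSp_injective : Function.Injective (dgSp m F) := by
  intro A B h
  have h1 : fromBlocks (A : Matrix (Fin m) (Fin m) F) 0 0 ((A⁻¹ : GL (Fin m) F) : Matrix (Fin m) (Fin m) F)ᵀ =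
      fromBlocks (B : Matrix (Fin m) (Fin m) F) 0 0 ((B⁻¹ : GL (Fin m) F) : Matrix (Fin m) (Fin m) F)ᵀ :=
    congrArg Subtype.val h
  exact Units.ext (fromBlocks_inj.mp h1).1

theorem uniSp_mem {B : Matrix (Fin m) (Fin m) F} (hB : Bᵀ = B) :
    (fromBlocks 1 B 0 1 : Matrix (Fin m ⊕ Fin m) (Fin m ⊕ Fin m) F) ∈ Matrix.symplecticGroup (Fin m) F := by
  rw [SymplecticGroup.mem_iff, Matrix.J, fromBlocks_transpose, fromBlocks_multiply, fromBlocks_multiply]
  simp [hB]

/-- `B ↦ [1 B; 0 1]` -/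
def uniSp (m : ℕ) (F : Type*) [Field F] : Multiplicative (sym m F) →* Matrix.symplecticGroup (Fin m) F where
  toFun B := ⟨_, uniSp_mem (Multiplicative.toAdd B : sym m F).2⟩
  map_one' := by
    apply Subtype.ext
    change fromBlocks 1 ((0 : sym m F) : Matrix (Fin m) (Fin m) F) 0 1 = 1
    simp
  map_mul' A B := by
    apply Subtype.ext
    change fromBlocks 1 (((Multiplicative.toAdd A : sym m F) : Matrix (Fin m) (Fin m) F) +
      ((Multiplicative.toAdd B : sym m F) : Matrix (Fin m) (Fin m) F)) 0 1 =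
      fromBlocks 1 ((Multiplicative.toAdd A : sym m F) : Matrix (Fin m) (Fin m) F) 0 1 *
      fromBlocks 1 ((Multiplicative.toAdd B : sym m F) : Matrix (Fin m) (Fin m) F) 0 1
    rw [fromBlocks_multiply]
    simp [add_comm]

theorem uniSp_injective : Function.Injective (uniSp m F) := by
  intro A B h
  have h3 : fromBlocks 1 ((Multiplicative.toAdd A : sym m F) : Matrix (Fin m) (Fin m) F) 0 1 =
    fromBlocks 1 ((Multiplicative.toAdd B : sym m F) : Matrix (Fin m) (Fin m) F) 0 1 := congrArg Subtype.val h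
  exact Subtype.ext (fromBlocks_inj.1 h3).2.1

/-- **the symplectic group** -/
theorem mov_sp [Fintype F] {p : ℕ} [CharP F p] {e r : ℕ} (hr : r.Prime)
    (hr2 : r ≠ 2) (he1 : 1 ≤ e) (he : e ≤ m) (h : r ∣ Fintype.card F ^ e - 1) :
    Mov (Matrix.symplecticGroup (Fin m) F) p r := by
  obtain ⟨A, hA⟩ := exists_gl (F := F) hr he1 he h
  obtain ⟨B, hB, hne⟩ := exists_sym (sq_ne_one hr hr2 hA)
  have hact : ∀ (A : GL (Fin m) F) (B : sym m F), actM A B ∈ sym m F := by
    intro A B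
    change (actM A B)ᵀ = actM A B
    have hB : (B : Matrix (Fin m) (Fin m) F)ᵀ = B := B.2
    rw [actM_transpose, hB]
  refine mov_of_homs (V := sym m F) (A := GL (Fin m) F) (p := p) ?_ (dgSp m F) (uniSp m F) uniSp_injective
    (fun A B => ⟨actM A B, hact A B⟩) ?_ (a := A) (by rw [orderOf_injective _ dgSp_injective, hA]) (v := ⟨B, hB⟩) ?_
  · intro v
    apply Subtype.ext
    change p • (v : Matrix (Fin m) (Fin m) F) = 0
    rw [← Nat.cast_smul_eq_nsmul F, CharP.cast_eq_zero, zero_smul]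
  · intro A B
    rw [mul_inv_eq_iff_eq_mul]
    apply Subtype.ext
    exact conj_blocks A B
  · intro h
    exact hne (congrArg Subtype.val h)

theorem sp_center_sq (z : Subgroup.center (Matrix.symplecticGroup (Fin m) F)) : z ^ 2 = 1 := by
  apply Subtype.ext
  apply Subtype.ext
  have h := Cfsg.Agent.ClassicalGeometry.SympInvolutions.center_eq z.2
  change ((z : Matrix.symplecticGroup (Fin m) F) : Matrix (Fin m ⊕ Fin m) (Fin m ⊕ Fin m) F) ^ 2 = 1
  rcases h with h | h <;> rw [h] <;> simp only [_root_.one_pow, _root_.even_two, _root_.Even.neg_pow]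

theorem mov_psp [Fintype F] {p : ℕ} [CharP F p] (hp : p.Prime) (hp2 : p ≠ 2) {e r : ℕ} (hr : r.Prime)
    (hr2 : r ≠ 2) (he1 : 1 ≤ e) (he : e ≤ m) (h : r ∣ Fintype.card F ^ e - 1) : Mov (Cfsg.PSp m F) p r :=
  have : Finite (Matrix.symplecticGroup (Fin m) F) := Finite.of_injective _ Subtype.val_injective
  mov_quot _ (not_dvd_card_of_sq hp hp2 sp_center_sq) hp hr (mov_sp hr hr2 he1 he h)

end mat

/-! ### orthogonal groups -/

section orth

open Cfsg.Agent.LieClassical.OrthCount Cfsg.Agent.LieClassical.OmegaReindex Cfsg.Agent.LieClassical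

variable {F : Type} [Field F] [Fintype F] {m p e r : ℕ} [CharP F p]

omit [Fintype F] in
theorem two_ne (hp2 : p ≠ 2) (hp : p.Prime) : (2 : F) ≠ 0 := by
  intro h
  have h1 : ((2 : ℕ) : F) = 0 := by exact_mod_cast h
  rw [CharP.cast_eq_zero_iff F p] at h1
  exact hp2 ((Nat.prime_dvd_prime_iff_eq hp Nat.prime_two).1 h1)

theorem mov_plus (hp : p.Prime) (hp2 : p ≠ 2) (hm : 3 ≤ m) (hr : r.Prime) (hr2 : r ≠ 2) (he1 : 1 ≤ e) (he : e ≤ m)
    (h : r ∣ Fintype.card F ^ e - 1) : Mov (Cfsg.POmega F (Cfsg.quadFormPlus m F)) p r := by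
  have hcard : Fintype.card (Fin m ⊕ Fin m) = 2 * m := by simp only [_root_.Fintype.card_sum, _root_.Fintype.card_fin]; ring
  have hD : Cfsg.Agent.H390.Lift.Data (quadPlus m F) :=
    Cfsg.Agent.H390.data_of _ quadPlus_nondegenerate (by rw [hcard]; omega)
    (quadPlus_isotropic (by omega)) (Or.inr (by rw [hcard]; omega))
  have h1 : Mov (Cfsg.isometryGroup F (quadPlus m F)) p r := by
    rw [coe_quadPlus]
    exact mov_isom (two_ne hp2 hp) hm hr hr2 he1 he h
  rw [← coe_quadPlus]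
  exact mov_pomega hD hp hp2 hr hr2 h1

theorem mov_odd (hp : p.Prime) (hp2 : p ≠ 2) (hm : 3 ≤ m) (hr : r.Prime) (hr2 : r ≠ 2) (he1 : 1 ≤ e) (he : e ≤ m)
    (h : r ∣ Fintype.card F ^ e - 1) : Mov (Cfsg.POmega F (Cfsg.quadFormOdd m F)) p r := by
  have hcard : Fintype.card (Unit ⊕ (Fin m ⊕ Fin m)) = 2 * m + 1 := by simp only [_root_.Fintype.card_sum, _root_.Fintype.card_unique, _root_.Fintype.card_fin]; ring
  have hD : Cfsg.Agent.H390.Lift.Data (quadOdd m F) :=
    Cfsg.Agent.H390.data_of _ (quadOdd_nondegenerate (two_ne hp2 hp)) (by rw [hcard]; omega)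
    (quadOdd_isotropic (by omega)) (Or.inr (by rw [hcard]; omega))
  have h1 : Mov (Cfsg.isometryGroup F (quadOdd m F)) p r := by
    rw [coe_quadOdd]
    obtain ⟨f, hf⟩ := Cfsg.Agent.H104.OrthEmb.exists_emb_odd (F := F) m
    exact (mov_isom (two_ne hp2 hp) hm hr hr2 he1 he h).map f hf
  rw [← coe_quadOdd]
  exact mov_pomega hD hp hp2 hr hr2 h1

theorem mov_minus (hp : p.Prime) (hp2 : p ≠ 2) (hm : 3 ≤ m) {a b : F}
    (hab : ∀ z₁ z₂ : F, z₁ ^ 2 + a * z₁ * z₂ + b * z₂ ^ 2 = 0 → z₁ = 0 ∧ z₂ = 0)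
    (hr : r.Prime) (hr2 : r ≠ 2) (he1 : 1 ≤ e) (he : e ≤ m)
    (h : r ∣ Fintype.card F ^ e - 1) : Mov (Cfsg.POmega F (Cfsg.quadFormMinus m F a b)) p r := by
  have hcard : Fintype.card ((Fin m ⊕ Fin m) ⊕ Fin 2) = 2 * m + 2 := by simp only [_root_.Fintype.card_sum, _root_.Fintype.card_fin, _root_.Nat.add_right_cancel_iff]; ring
  have hD : Cfsg.Agent.H390.Lift.Data (quadMinus m F a b) :=
    Cfsg.Agent.H390.data_of _ (quadMinus_nondegenerate hab) (by rw [hcard]; omega)
    (quadMinus_isotropic (by omega) a b) (Or.inr (by rw [hcard]; omega))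
  have h1 : Mov (Cfsg.isometryGroup F (quadMinus m F a b)) p r := by
    rw [coe_quadMinus]
    obtain ⟨f, hf⟩ := Cfsg.Agent.H104.OrthEmb.exists_emb_minus (F := F) m a b
    exact (mov_isom (two_ne hp2 hp) hm hr hr2 he1 he h).map f hf
  rw [← coe_quadMinus]
  exact mov_pomega hD hp hp2 hr hr2 h1

end orth

end Cfsg.Agent.H425.Siegel

private theorem dce_52dcb65682b2 : _root_.True := by
  try have : _root_.True := by simp only [_root_.Cfsg.Agent.H425.Siegel.actM.eq_1]
  exact _root_.True.intro
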