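import Mathlib
import Cfsg.Agent.H363.Frat
import Cfsg.Agent.Prune
set_option linter.all false
prune_inst 0x7f00000000000000000000000000000000000000000000000000000000000000000000000000000000000000000000000000000000000000000000000000000000000000000000000000000000000000003fffffffffffffffffffffffffffbeffbdffffffff
open scoped Cfsg.Agent.FastGrp

/-!
# Groups whose order has a large `p`-part and two primes not adjacent to `p` (helper425)

`exists_simple`: `G` finite, `p`, `r`, `l` primes dividing `|G|`, no elements of order `p r`, `p l`,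
`r ∣ p ^ a - 1 → e₁ ∣ a`, `l ∣ p ^ a - 1 → e₂ ∣ a`, `v_p(|G|) < lcm e₁ e₂`, `|G|_r, |G|_l ≤ |G|_p`.
Then there are a normal `{p, r, l}'`-subgroup `K` and a non-abelian simple normal subgroup `S` of
`G / K` of order divisible by `p` and by one of `r`, `l`, with `|S|_p` close to `|G|_p`.
-/

set_option autoImplicit false

namespace Cfsg.Agent.H425.CharChief

open Subgroup Cfsg.Agent.H363.Frat

variable {G : Type*} [Group G]

theorem card_comap_mk [Finite G] (K : Subgroup G) [K.Normal] (N : Subgroup (G ⧸ K)) :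
    Nat.card (N.comap (QuotientGroup.mk' K)) = Nat.card N * Nat.card K := by
  have hle : K ≤ N.comap (QuotientGroup.mk' K) := by
    intro x hx
    rw [mem_comap, QuotientGroup.mk'_apply, (QuotientGroup.eq_one_iff x).mpr hx]
    exact one_mem _
  rw [Subgroup.card_eq_card_quotient_mul_card_subgroup (K.subgroupOf (N.comap (QuotientGroup.mk' K))),
    Nat.card_congr (quotEquiv K N).toEquiv, Nat.card_congr (subgroupOfEquivOfLe hle).toEquiv]

/-- A largest normal `p'`-subgroup. -/
theorem exists_core [Finite G] {p : ℕ} (hp : p.Prime) :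
    ∃ (K : Subgroup G) (_ : K.Normal), ¬ p ∣ Nat.card K ∧
      ∀ N : Subgroup (G ⧸ K), N.Normal → N ≠ ⊥ → p ∣ Nat.card N := by
  have hfin : {K : Subgroup G | K.Normal ∧ ¬ p ∣ Nat.card K}.Finite := Set.toFinite _
  have hne : {K : Subgroup G | K.Normal ∧ ¬ p ∣ Nat.card K}.Nonempty := by
    refine ⟨⊥, inferInstance, ?_⟩
    rw [Subgroup.card_bot]
    exact fun h => hp.one_lt.ne' (Nat.dvd_one.mp h)
  obtain ⟨K, ⟨hKn, hKp⟩, hmax⟩ := hfin.exists_maximal hne
  refine ⟨K, hKn, hKp, fun N hN hN0 => ?_⟩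
  by_contra hpN
  apply hN0
  have h1 : (N.comap (QuotientGroup.mk' K)).Normal := inferInstance
  have h2 : ¬ p ∣ Nat.card (N.comap (QuotientGroup.mk' K)) := by
    rw [card_comap_mk]
    intro h
    rcases hp.dvd_mul.mp h with h | h
    · exact hpN h
    · exact hKp h
  have hle : K ≤ N.comap (QuotientGroup.mk' K) := by
    intro x hx
    rw [mem_comap, QuotientGroup.mk'_apply, (QuotientGroup.eq_one_iff x).mpr hx]
    exact one_mem _
  have h3 : N.comap (QuotientGroup.mk' K) ≤ K := hmax ⟨h1, h2⟩ hle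
  rw [eq_bot_iff]
  intro x hx
  obtain ⟨g, rfl⟩ := QuotientGroup.mk'_surjective K x
  rw [mem_bot, QuotientGroup.mk'_apply, QuotientGroup.eq_one_iff]
  exact h3 hx

/-- In a direct power with at least two factors, primes dividing the order of the factor are adjacent. -/
theorem not_nonAdj_pi {T : Type*} [Group T] [Finite T] {m : ℕ} (hm : 2 ≤ m) {p r : ℕ} (hp : p.Prime)
    (hr : r.Prime) (hpr : p ≠ r) (h1 : p ∣ Nat.card T) (h2 : r ∣ Nat.card T) :
    ¬ NonAdj (Fin m → T) p r := by
  classical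
  intro h
  have := Fact.mk hp
  have := Fact.mk hr
  obtain ⟨a, ha⟩ := exists_prime_orderOf_dvd_card' p h1
  obtain ⟨b, hb⟩ := exists_prime_orderOf_dvd_card' r h2
  let i : Fin m := ⟨0, by omega⟩
  let j : Fin m := ⟨1, by omega⟩
  have hij : i ≠ j := by
    intro h
    exact absurd (congrArg Fin.val h) (by simp [i, j])
  have hx : orderOf (Pi.mulSingle i a : Fin m → T) = p := by
    rw [← ha]
    exact orderOf_injective (MonoidHom.mulSingle (fun _ : Fin m => T) i)
      (fun x y h => Pi.mulSingle_injective (M := fun _ : Fin m => T) i h) a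
  have hy : orderOf (Pi.mulSingle j b : Fin m → T) = r := by
    rw [← hb]
    exact orderOf_injective (MonoidHom.mulSingle (fun _ : Fin m => T) j)
      (fun x y h => Pi.mulSingle_injective (M := fun _ : Fin m => T) j h) b
  have hc : Commute (Pi.mulSingle i a : Fin m → T) (Pi.mulSingle j b) :=
    Pi.mulSingle_commute (f := fun _ : Fin m => T) hij a b
  have h3 := eq_one_of_commute hp hr hpr h (x := Pi.mulSingle i a) (y := Pi.mulSingle j b)
    ⟨1, by rw [hx, pow_one]⟩ ⟨1, by rw [hy, pow_one]⟩ hc (by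
      intro h
      rw [h, orderOf_one] at hy
      exact hr.one_lt.ne hy)
  rw [h3, orderOf_one] at hx
  exact hp.one_lt.ne hx

theorem exists_simple [Finite G] {p r l e₁ e₂ : ℕ} (hp : p.Prime) (hr : r.Prime) (hl : l.Prime)
    (hpr : p ≠ r) (hpl : p ≠ l) (hnr : NonAdj G p r) (hnl : NonAdj G p l)
    (hpG : p ∣ Nat.card G) (hrG : r ∣ Nat.card G) (hlG : l ∣ Nat.card G)
    (hrle : r ^ (Nat.card G).factorization r ≤ p ^ (Nat.card G).factorization p)
    (hlle : l ^ (Nat.card G).factorization l ≤ p ^ (Nat.card G).factorization p)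
    (h1 : ∀ a, r ∣ p ^ a - 1 → e₁ ∣ a) (h2 : ∀ a, l ∣ p ^ a - 1 → e₂ ∣ a)
    (hlcm : (Nat.card G).factorization p < Nat.lcm e₁ e₂) :
    ∃ (K : Subgroup G) (_ : K.Normal) (S : Subgroup (G ⧸ K)) (_ : S.Normal) (_ : IsSimpleGroup S),
      (¬ ∀ a b : S, a * b = b * a) ∧ ¬ p ∣ Nat.card K ∧ ¬ r ∣ Nat.card K ∧ ¬ l ∣ Nat.card K ∧
      Nat.card K * (S.index * Nat.card S) = Nat.card G ∧
      p ∣ Nat.card S ∧ (r ∣ Nat.card S ∨ l ∣ Nat.card S) ∧
      (r ∣ Nat.card S → p ^ ((Nat.card G).factorization p - (Nat.card S).factorization p) ∣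
        r ^ (Nat.card S).factorization r - 1) ∧
      (l ∣ Nat.card S → p ^ ((Nat.card G).factorization p - (Nat.card S).factorization p) ∣
        l ^ (Nat.card S).factorization l - 1) ∧
      (¬ r ∣ Nat.card S → e₁ ∣ (Nat.card S).factorization p) ∧
      (¬ l ∣ Nat.card S → e₂ ∣ (Nat.card S).factorization p) := by
  classical
  obtain ⟨K, hKn, hKp, hcore⟩ := exists_core (G := G) hp
  have hcardG : Nat.card G = Nat.card (G ⧸ K) * Nat.card K :=
    Subgroup.card_eq_card_quotient_mul_card_subgroup K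
  have hG0 : Nat.card G ≠ 0 := Nat.card_pos.ne'
  have hK0 : Nat.card K ≠ 0 := Nat.card_pos.ne'
  have hQ0 : Nat.card (G ⧸ K) ≠ 0 := Nat.card_pos.ne'
  have hfacp : (Nat.card (G ⧸ K)).factorization p = (Nat.card G).factorization p := by
    rw [hcardG, Nat.factorization_mul hQ0 hK0, Finsupp.add_apply,
      Nat.factorization_eq_zero_of_not_dvd hKp, add_zero]
  have hindex : p ^ (Nat.card G).factorization p ∣ K.index := by
    rw [← hfacp]
    exact Nat.ordProj_dvd _ _
  -- a prime not adjacent to `p` does not divide `|K|`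
  have hKq : ∀ q : ℕ, q.Prime → p ≠ q → NonAdj G p q →
      q ^ (Nat.card G).factorization q ≤ p ^ (Nat.card G).factorization p → ¬ q ∣ Nat.card K := by
    intro q hq hpq hnq hqle hqK
    have h3 := pow_dvd_of_normal hp hq hpq hnq K hindex
    have h4 : (Nat.card K).factorization q ≤ (Nat.card G).factorization q := by
      rw [hcardG, Nat.factorization_mul hQ0 hK0, Finsupp.add_apply]
      omega
    have h5 : 1 ≤ (Nat.card K).factorization q := hq.factorization_pos_of_dvd hK0 hqK
    have h6 : q ^ (Nat.card K).factorization q ≤ q ^ (Nat.card G).factorization q :=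
      Nat.pow_le_pow_right hq.pos h4
    have h7 : q ^ 1 ≤ q ^ (Nat.card K).factorization q := Nat.pow_le_pow_right hq.pos h5
    rw [pow_one] at h7
    have h8 := hq.two_le
    have h10 : 0 < p ^ (Nat.card G).factorization p := pow_pos hp.pos _
    have h9 := Nat.le_of_dvd (by omega) h3
    omega
  have hKr := hKq r hr hpr hnr hrle
  have hKl := hKq l hl hpl hnl hlle
  have hnr' : NonAdj (G ⧸ K) p r := hnr.quotient K
  have hnl' : NonAdj (G ⧸ K) p l := hnl.quotient K
  have hdvdQ : ∀ q : ℕ, q.Prime → q ∣ Nat.card G → ¬ q ∣ Nat.card K → q ∣ Nat.card (G ⧸ K) := by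
    intro q hq h3 h4
    rw [hcardG] at h3
    exact (hq.dvd_mul.mp h3).resolve_right h4
  have hpQ := hdvdQ p hp hpG hKp
  have hrQ := hdvdQ r hr hrG hKr
  have hlQ := hdvdQ l hl hlG hKl
  -- a minimal normal subgroup
  have hQne : (⊤ : Subgroup (G ⧸ K)) ≠ ⊥ := by
    intro h
    have h3 : Nat.card (⊤ : Subgroup (G ⧸ K)) = 1 := by rw [h, Subgroup.card_bot]
    rw [Subgroup.card_top] at h3
    rw [h3] at hpQ
    exact hp.one_lt.ne' (Nat.dvd_one.mp hpQ)
  obtain ⟨S, ⟨hSn, hS0⟩, hmin⟩ := (Set.toFinite {N : Subgroup (G ⧸ K) | N.Normal ∧ N ≠ ⊥}).exists_minimal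
    ⟨⊤, inferInstance, hQne⟩
  have hmin' : ∀ M : Subgroup (G ⧸ K), M.Normal → M ≤ S → M = ⊥ ∨ M = S := by
    intro M hM hMS
    by_cases hM0 : M = ⊥
    · exact Or.inl hM0
    · exact Or.inr (le_antisymm hMS (hmin ⟨hM, hM0⟩ hMS))
  have hpS : p ∣ Nat.card S := hcore S hSn hS0
  have hS00 : Nat.card S ≠ 0 := Nat.card_pos.ne'
  have hidx : S.index * Nat.card S = Nat.card (G ⧸ K) := S.index_mul_card
  have hidx0 : S.index ≠ 0 := fun h => hQ0 (by rw [← hidx, h, zero_mul])
  have hidxp : p ^ ((Nat.card G).factorization p - (Nat.card S).factorization p) ∣ S.index := by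
    rw [← hfacp, ← hidx, Nat.factorization_mul hidx0 hS00, Finsupp.add_apply, Nat.add_sub_cancel]
    exact Nat.ordProj_dvd _ _
  have key : ∀ q : ℕ, q.Prime → p ≠ q → NonAdj (G ⧸ K) p q → q ∣ Nat.card (G ⧸ K) →
      (q ∣ Nat.card S → p ^ ((Nat.card G).factorization p - (Nat.card S).factorization p) ∣
        q ^ (Nat.card S).factorization q - 1) ∧
      (¬ q ∣ Nat.card S → q ∣ p ^ (Nat.card S).factorization p - 1) := by
    intro q hq hpq hnq hqQ
    refine ⟨fun _ => pow_dvd_of_normal hp hq hpq hnq S hidxp, fun hqS => ?_⟩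
    have h3 : q ^ 1 ∣ S.index := by
      rw [pow_one]
      rw [← hidx] at hqQ
      exact (hq.dvd_mul.mp hqQ).resolve_right hqS
    have h4 := pow_dvd_of_normal hq hp hpq.symm hnq.symm S h3
    rwa [pow_one] at h4
  have keyr := key r hr hpr hnr' hrQ
  have keyl := key l hl hpl hnl' hlQ
  have hor : r ∣ Nat.card S ∨ l ∣ Nat.card S := by
    by_contra hcon
    rw [not_or] at hcon
    have h3 := h1 _ (keyr.2 hcon.1)
    have h4 := h2 _ (keyl.2 hcon.2)
    have h5 := Nat.lcm_dvd h3 h4
    have h6 : 0 < (Nat.card S).factorization p := hp.factorization_pos_of_dvd hS00 hpS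
    have h7 := Nat.le_of_dvd h6 h5
    have h8 : (Nat.card S).factorization p ≤ (Nat.card G).factorization p := by
      rw [← hfacp, ← hidx, Nat.factorization_mul hidx0 hS00, Finsupp.add_apply]
      omega
    omega
  obtain ⟨q, hq, hpq, hnq, hqS⟩ : ∃ q : ℕ, q.Prime ∧ p ≠ q ∧ NonAdj (G ⧸ K) p q ∧ q ∣ Nat.card S := by
    rcases hor with h | h
    · exact ⟨r, hr, hpr, hnr', h⟩
    · exact ⟨l, hl, hpl, hnl', h⟩
  obtain ⟨T, m, _, hT, hm, ⟨e⟩⟩ := Cfsg.Agent.Lib.MinNormal.exists_mulEquiv_pi S hS0 hmin'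
  have hcardS : Nat.card S = Nat.card T ^ m := by
    rw [Nat.card_congr e.toEquiv, Nat.card_fun]
    simp
  have hpT : p ∣ Nat.card T := by
    rw [hcardS] at hpS
    exact hp.dvd_of_dvd_pow hpS
  have hqT : q ∣ Nat.card T := by
    rw [hcardS] at hqS
    exact hq.dvd_of_dvd_pow hqS
  have hnS : NonAdj S p q := hnq.subgroup S
  have hm1 : m = 1 := by
    by_contra hne
    apply not_nonAdj_pi (T := T) (m := m) (by omega) hp hq hpq hpT hqT
    exact hnS.of_injective e.symm.toMonoidHom e.symm.injective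
  subst hm1
  have hSs : IsSimpleGroup S := (e.trans (MulEquiv.funUnique (Fin 1) T)).isSimpleGroup
  refine ⟨K, hKn, S, hSn, hSs, ?_, hKp, hKr, hKl, ?_, hpS, hor, keyr.1, keyl.1,
    fun h => h1 _ (keyr.2 h), fun h => h2 _ (keyl.2 h)⟩
  · intro hcomm
    have := Fact.mk hp
    have := Fact.mk hq
    obtain ⟨a, ha⟩ := exists_prime_orderOf_dvd_card' p hpS
    obtain ⟨b, hb⟩ := exists_prime_orderOf_dvd_card' q hqS
    have h3 := eq_one_of_commute hp hq hpq hnS (x := a) (y := b)
      ⟨1, by rw [ha, pow_one]⟩ ⟨1, by rw [hb, pow_one]⟩ (hcomm a b) (by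
        intro h
        rw [h, orderOf_one] at hb
        exact hq.one_lt.ne hb)
    rw [h3, orderOf_one] at ha
    exact hp.one_lt.ne ha
  · rw [hidx, hcardG, mul_comm]

/-- If the section has the order of the whole group, it is the whole group. -/
theorem mulEquiv_of_card [Finite G] (K : Subgroup G) [K.Normal] (S : Subgroup (G ⧸ K))
    (h : Nat.card S = Nat.card G) : Nonempty (G ≃* S) := by
  have hcardG : Nat.card G = Nat.card (G ⧸ K) * Nat.card K :=
    Subgroup.card_eq_card_quotient_mul_card_subgroup K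
  have h1 : Nat.card S ≤ Nat.card (G ⧸ K) := Subgroup.card_le_card_group S
  have hQ0 : 0 < Nat.card (G ⧸ K) := Nat.card_pos
  have hK1 : Nat.card K = 1 := by
    have hK0 : 0 < Nat.card K := Nat.card_pos
    by_contra hne
    have h2 : 2 ≤ Nat.card K := by omega
    have h3 : Nat.card (G ⧸ K) * 2 ≤ Nat.card (G ⧸ K) * Nat.card K := Nat.mul_le_mul_left _ h2
    omega
  have hK : K = ⊥ := Subgroup.card_eq_one.mp hK1
  subst hK
  have hS : S = ⊤ := by
    apply Subgroup.eq_top_of_card_eq
    rw [h, hcardG, hK1, mul_one]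
  subst hS
  exact ⟨(QuotientGroup.quotientBot).symm.trans Subgroup.topEquiv.symm⟩

end Cfsg.Agent.H425.CharChief
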