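import Cfsg.Agent.H343.WitCl_m3
import Cfsg.Agent.H204.CrossT
import Cfsg.Agent.LieClassical.OmegaReindex
import Cfsg.Agent.Prune
set_option linter.all false
prune_inst 0x7f00000000000000000000000000000000000000000000000000000000000000000000000000000000000000000000000000000000000000000000000000000000000000000000000000000000000000003fffffffffffffffffffffffffffbeffbdffffffff
open scoped Cfsg.Agent.FastGrp

/-!
# `Ω_{2m+1}` as a subgroup of `PΩ⁺_{2m+2}` and of `PΩ⁻_{2m+2}`, odd characteristic (helper425)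
-/

set_option autoImplicit false

namespace Cfsg.Agent.H425.Emb

open Cfsg Matrix QuadraticMap
open Cfsg.Agent.H343.Blk Cfsg.Agent.H204.CrossT Cfsg.Agent.LieClassical.OmegaReindex

universe u

variable {F : Type u} [Field F] {m : ℕ}

/-- the index set -/
abbrev Kap (m : ℕ) : Type := (Unit ⊕ (Fin m ⊕ Fin m)) ⊕ Unit

/-- the change of coordinates -/
noncomputable def Tp (h2 : (2 : F) ≠ 0) : (Kap m → F) ≃ₗ[F] (Fin (m + 1) ⊕ Fin (m + 1) → F) where
  toFun v := Sum.elim
    (Fin.snoc (α := fun _ => F) (fun i : Fin m => v (.inl (.inr (.inl i)))) (v (.inl (.inl ())) + v (.inr ())))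
    (Fin.snoc (α := fun _ => F) (fun i : Fin m => v (.inl (.inr (.inr i)))) (v (.inl (.inl ())) - v (.inr ())))
  invFun u := Sum.elim (Sum.elim (fun _ => (u (.inl (Fin.last m)) + u (.inr (Fin.last m))) / 2)
      (Sum.elim (fun i => u (.inl i.castSucc)) (fun i => u (.inr i.castSucc))))
    (fun _ => (u (.inl (Fin.last m)) - u (.inr (Fin.last m))) / 2)
  map_add' v w := by
    funext i
    rcases i with i | i
    · refine Fin.lastCases ?_ (fun i => ?_) i
      · simp only [Sum.elim_inl, Pi.add_apply, Fin.snoc_last]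
        ring
      · simp only [Sum.elim_inl, Pi.add_apply, Fin.snoc_castSucc]
    · refine Fin.lastCases ?_ (fun i => ?_) i
      · simp only [Sum.elim_inr, Pi.add_apply, Fin.snoc_last]
        ring
      · simp only [Sum.elim_inr, Pi.add_apply, Fin.snoc_castSucc]
  map_smul' c v := by
    funext i
    rcases i with i | i
    · refine Fin.lastCases ?_ (fun i => ?_) i
      · simp only [Sum.elim_inl, Pi.smul_apply, Fin.snoc_last, smul_eq_mul, RingHom.id_apply]
        ring
      · simp only [Sum.elim_inl, Pi.smul_apply, Fin.snoc_castSucc, smul_eq_mul, RingHom.id_apply]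
    · refine Fin.lastCases ?_ (fun i => ?_) i
      · simp only [Sum.elim_inr, Pi.smul_apply, Fin.snoc_last, smul_eq_mul, RingHom.id_apply]
        ring
      · simp only [Sum.elim_inr, Pi.smul_apply, Fin.snoc_castSucc, smul_eq_mul, RingHom.id_apply]
  left_inv v := by
    funext i
    rcases i with (i | (i | i)) | i
    · simp only [Sum.elim_inl, Sum.elim_inr, Fin.snoc_last]
      field_simp
      ring
    · simp only [Sum.elim_inl, Sum.elim_inr, Fin.snoc_castSucc]
    · simp only [Sum.elim_inl, Sum.elim_inr, Fin.snoc_castSucc]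
    · simp only [Sum.elim_inl, Sum.elim_inr, Fin.snoc_last]
      field_simp
      ring
  right_inv u := by
    funext i
    rcases i with i | i
    · refine Fin.lastCases ?_ (fun i => ?_) i
      · simp only [Sum.elim_inl, Sum.elim_inr, Fin.snoc_last]
        field_simp
        ring
      · simp only [Sum.elim_inl, Sum.elim_inr, Fin.snoc_castSucc]
    · refine Fin.lastCases ?_ (fun i => ?_) i
      · simp only [Sum.elim_inl, Sum.elim_inr, Fin.snoc_last]
        field_simp
        ring
      · simp only [Sum.elim_inl, Sum.elim_inr, Fin.snoc_castSucc]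

/-- the form in the new coordinates -/
noncomputable def Qp (h2 : (2 : F) ≠ 0) : QuadraticForm F (Kap m → F) := (quadPlus (m + 1) F).comp (Tp h2).toLinearMap

theorem Qp_apply (h2 : (2 : F) ≠ 0) (v : Kap m → F) :
    Qp h2 v = quadFormOdd m F (v ∘ Sum.inl) + -(v (.inr ())) ^ 2 := by
  change quadPlus (m + 1) F (Tp h2 v) = _
  rw [show quadPlus (m + 1) F (Tp h2 v) = quadFormPlus (m + 1) F (Tp h2 v) from congrFun (coe_quadPlus _ _) _,
    quadFormPlus, quadFormOdd, Fin.sum_univ_castSucc]
  simp only [Tp, LinearEquiv.coe_mk, LinearMap.coe_mk, AddHom.coe_mk, Sum.elim_inl, Sum.elim_inr, Fin.snoc_last,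
    Fin.snoc_castSucc, Function.comp_apply]
  ring

/-- the orthogonal sum -/
noncomputable def sumP (h2 : (2 : F) ≠ 0) :
    OrthSum (⇑(Qp (m := m) h2)) (quadFormOdd m F) (fun w : Unit → F => -(w ()) ^ 2) where
  e := Sum.inl
  f := Sum.inr
  he := Sum.inl_injective
  hf := Sum.inr_injective
  disj i j h := by simp at h
  sum v := Qp_apply h2 v

theorem exists_emb_plus (h2 : (2 : F) ≠ 0) (hm : 1 ≤ m) :
    ∃ φ : Omega F (quadFormOdd m F) →* POmega F (quadFormPlus (m + 1) F), Function.Injective φ := by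
  have hT : ∀ v, quadPlus (m + 1) F (Tp h2 v) = Qp h2 v := fun v => rfl
  have hnd : (polarBilin (Qp (m := m) h2)).Nondegenerate := by
    have h0 := quadPlus_nondegenerate (F := F) (m := m + 1)
    have hpol : ∀ x y, polar (Qp (m := m) h2) x y = polar (quadPlus (m + 1) F) (Tp h2 x) (Tp h2 y) := fun x y => by
      rw [polar, polar, ← map_add, hT, hT, hT]
    have key : ∀ x, (∀ y, polar (Qp (m := m) h2) x y = 0) → x = 0 := fun x hx => by
      apply (Tp h2).map_eq_zero_iff.1
      refine h0.1 _ fun y => ?_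
      obtain ⟨y, rfl⟩ := (Tp h2).surjective y
      have := hx y
      rw [hpol] at this
      exact this
    refine ⟨fun x hx => key x hx, fun x hx => key x fun y => ?_⟩
    rw [polar_comm]
    exact hx y
  have hs : ∃ u : Kap m → F, u ≠ 0 ∧ Qp h2 u = 0 := by
    obtain ⟨u, hu0, hu⟩ := quadPlus_isotropic (F := F) (m := m + 1) (by omega)
    refine ⟨(Tp h2).symm u, fun h => hu0 ((Tp h2).symm.map_eq_zero_iff.1 h), ?_⟩
    rw [← hT, LinearEquiv.apply_symm_apply, hu]
  have hcard : 3 ≤ Fintype.card (Kap m) := by simp only [_root_.Fintype.card_sum, _root_.Fintype.card_unique, _root_.Fintype.card_fin, _root_.Nat.reduceLeDiff]; omega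
  let P := OrthSum.ppair (QF := Qp h2) rfl hnd hcard hs (sumP h2) (Sum.inl ()) ()
  let e : POmega F (⇑(Qp (m := m) h2)) ≃* POmega F (⇑(quadPlus (m + 1) F)) := poT hT
  rw [← coe_quadPlus]
  exact ⟨e.toMonoidHom.comp P.f, e.injective.comp P.hf⟩

/-! ### the minus type -/

/-- the change of coordinates -/
noncomputable def Tm (_h2 : (2 : F) ≠ 0) (a : F) : (Kap m → F) ≃ₗ[F] ((Fin m ⊕ Fin m) ⊕ Fin 2 → F) where
  toFun v := Sum.elim (fun s => v (.inl (.inr s))) ![v (.inl (.inl ())) - a / 2 * v (.inr ()), v (.inr ())]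
  invFun u := Sum.elim (Sum.elim (fun _ => u (.inr 0) + a / 2 * u (.inr 1)) (fun s => u (.inl s)))
    (fun _ => u (.inr 1))
  map_add' v w := by
    funext i
    rcases i with i | i
    · simp only [_root_.Pi.add_apply, _root_.Sum.elim_inl]
    · fin_cases i
      · simp only [_root_.Pi.add_apply, _root_.Fin.zero_eta, _root_.Fin.isValue, _root_.Sum.elim_inr, _root_.Matrix.cons_val_zero]; ring
      · simp only [_root_.Pi.add_apply, _root_.Fin.mk_one, _root_.Fin.isValue, _root_.Sum.elim_inr, _root_.Matrix.cons_val_one, _root_.Matrix.cons_val_fin_one]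
  map_smul' c v := by
    funext i
    rcases i with i | i
    · simp
    · fin_cases i
      · simp; ring
      · simp
  left_inv v := by
    funext i
    rcases i with (i | i) | i
    · simp
    · simp
    · simp
  right_inv u := by
    funext i
    rcases i with i | i
    · simp
    · fin_cases i
      · simp
      · simp

/-- the form in the new coordinates -/
noncomputable def Qm (h2 : (2 : F) ≠ 0) (a b : F) : QuadraticForm F (Kap m → F) :=
  (quadMinus m F a b).comp (Tm h2 a).toLinearMap

theorem Qm_apply (h2 : (2 : F) ≠ 0) (a b : F) (v : Kap m → F) :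
    Qm h2 a b v = quadFormOdd m F (v ∘ Sum.inl) + (b - a ^ 2 / 4) * (v (.inr ())) ^ 2 := by
  change quadMinus m F a b (Tm h2 a v) = _
  rw [show quadMinus m F a b (Tm h2 a v) = quadFormMinus m F a b (Tm h2 a v) from congrFun (coe_quadMinus _ _ a b) _,
    quadFormMinus, quadFormOdd]
  simp only [Tm, LinearEquiv.coe_mk, LinearMap.coe_mk, AddHom.coe_mk, Sum.elim_inl, Sum.elim_inr,
    Function.comp_apply, Matrix.cons_val_zero, Matrix.cons_val_one]
  have h4 : (4 : F) ≠ 0 := by
    have : (4 : F) = 2 * 2 := by norm_num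
    rw [this]
    exact mul_ne_zero h2 h2
  field_simp
  ring

/-- the orthogonal sum -/
noncomputable def sumM (h2 : (2 : F) ≠ 0) (a b : F) :
    OrthSum (⇑(Qm (m := m) h2 a b)) (quadFormOdd m F) (fun w : Unit → F => (b - a ^ 2 / 4) * (w ()) ^ 2) where
  e := Sum.inl
  f := Sum.inr
  he := Sum.inl_injective
  hf := Sum.inr_injective
  disj i j h := by simp at h
  sum v := Qm_apply h2 a b v

theorem exists_emb_minus [Finite F] (h2 : (2 : F) ≠ 0) (hm : 1 ≤ m) {a b : F}
    (hab : ∀ z₁ z₂ : F, z₁ ^ 2 + a * z₁ * z₂ + b * z₂ ^ 2 = 0 → z₁ = 0 ∧ z₂ = 0) :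
    ∃ φ : Omega F (quadFormOdd m F) →* POmega F (quadFormMinus m F a b), Function.Injective φ := by
  have hT : ∀ v, quadMinus m F a b (Tm h2 a v) = Qm h2 a b v := fun v => rfl
  have hnd : (polarBilin (Qm (m := m) h2 a b)).Nondegenerate := by
    have h0 := quadMinus_nondegenerate (F := F) (m := m) hab
    have hpol : ∀ x y, polar (Qm (m := m) h2 a b) x y = polar (quadMinus m F a b) (Tm h2 a x) (Tm h2 a y) :=
      fun x y => by rw [polar, polar, ← map_add, hT, hT, hT]
    have key : ∀ x, (∀ y, polar (Qm (m := m) h2 a b) x y = 0) → x = 0 := fun x hx => by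
      apply (Tm h2 a).map_eq_zero_iff.1
      refine h0.1 _ fun y => ?_
      obtain ⟨y, rfl⟩ := (Tm h2 a).surjective y
      have := hx y
      rw [hpol] at this
      exact this
    refine ⟨fun x hx => key x hx, fun x hx => key x fun y => ?_⟩
    rw [polar_comm]
    exact hx y
  have hs : ∃ u : Kap m → F, u ≠ 0 ∧ Qm h2 a b u = 0 := by
    obtain ⟨u, hu0, hu⟩ := quadMinus_isotropic (F := F) (m := m) hm a b
    refine ⟨(Tm h2 a).symm u, fun h => hu0 ((Tm h2 a).symm.map_eq_zero_iff.1 h), ?_⟩
    rw [← hT, LinearEquiv.apply_symm_apply, hu]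
  have hcard : 3 ≤ Fintype.card (Kap m) := by simp only [_root_.Fintype.card_sum, _root_.Fintype.card_unique, _root_.Fintype.card_fin, _root_.Nat.reduceLeDiff]; omega
  let P := OrthSum.ppair (QF := Qm h2 a b) rfl hnd hcard hs (sumM h2 a b) (Sum.inl ()) ()
  let e : POmega F (⇑(Qm (m := m) h2 a b)) ≃* POmega F (⇑(quadMinus m F a b)) := poT hT
  rw [← coe_quadMinus]
  exact ⟨e.toMonoidHom.comp P.f, e.injective.comp P.hf⟩

end Cfsg.Agent.H425.Emb

private theorem dce_1b1224d32779 : _root_.True := by
  try have : _root_.True := by simp only [_root_.Cfsg.Agent.H425.Emb.Tm.eq_1]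
  try have : _root_.True := by simp only [_root_.Cfsg.Agent.H425.Emb.Tp.eq_1]
  exact _root_.True.intro
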