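import Mathlib
import Cfsg.Prelude.Def_Classical
import Cfsg.Agent.LieExceptional.SingerCentralizer
import Cfsg.Agent.LieClassical.OmegaReindex
import Cfsg.Agent.Prune
set_option linter.all false
prune_inst 0x7f00000000000000000000000000000000000000000000000000000000000000000000000000000000000000000000000000000000000000000000000000000000000000000000000000000000000000003fffffffffffffffffffffffffffbeffbdffffffff
open scoped Cfsg.Agent.FastGrp

/-!
# Elements of order `l`, `2 (n - 1)` the order of `q` modulo `l`, in orthogonal groups of dimension `2 n`: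
they commute with no `p`-element (helper425)
-/

set_option autoImplicit false

namespace Cfsg.Agent.H425.NoCommute

open Module Cfsg.Agent.LieExceptional.SingerCentralizer

theorem dvd_sub_of_modEq {q l e a b : ℕ} (hl : l.Prime) (hq : 0 < q) (hlq : ¬ l ∣ q)
    (he : ∀ a, l ∣ q ^ a - 1 → e ∣ a) (hba : b ≤ a) (h : q ^ a ≡ q ^ b [MOD l]) : e ∣ a - b := by
  apply he
  have h1 : l ∣ q ^ a - q ^ b := (Nat.modEq_iff_dvd' (Nat.pow_le_pow_right hq hba)).1 h.symm
  have hfac : q ^ a - q ^ b = q ^ b * (q ^ (a - b) - 1) := by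
    rw [Nat.mul_sub, mul_one, ← pow_add, Nat.add_sub_cancel' hba]
  rw [hfac] at h1
  exact (hl.dvd_mul.mp h1).resolve_left fun h2 => hlq (hl.dvd_of_dvd_pow h2)

variable {F V : Type*} [Field F] [Finite F] [AddCommGroup V] [Module F V] [FiniteDimensional F V]

omit [Finite F] [FiniteDimensional F V] in
/-- A nilpotent endomorphism that preserves a nonzero subspace has a nonzero kernel there. -/
theorem exists_ker {D : Module.End F V} {k : ℕ} (hD : D ^ k = 0) {W : Submodule F V} (hW : ∀ w ∈ W, D w ∈ W)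
    (hW0 : W ≠ ⊥) : ∃ w ∈ W, w ≠ 0 ∧ D w = 0 := by
  obtain ⟨w, hw, hw0⟩ := (Submodule.ne_bot_iff W).mp hW0
  have h1 : ∃ j, (D ^ j) w = 0 := ⟨k, by rw [hD]; rfl⟩
  classical
  have hmem : ∀ j, (D ^ j) w ∈ W := by
    intro j
    induction j with
    | zero => exact hw
    | succ j ih =>
      rw [pow_succ', Module.End.mul_apply]
      exact hW _ ih
  have h2 : Nat.find h1 ≠ 0 := by
    intro h
    have h3 := Nat.find_spec h1
    rw [h] at h3
    exact hw0 h3
  obtain ⟨j, hj⟩ := Nat.exists_eq_succ_of_ne_zero h2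
  refine ⟨(D ^ j) w, hmem j, Nat.find_min h1 (by omega), ?_⟩
  have h3 := Nat.find_spec h1
  rw [hj, Nat.succ_eq_add_one, pow_succ', Module.End.mul_apply] at h3
  exact h3

theorem finrank_range_le {p l e : ℕ} [Fact p.Prime] [CharP F p] (hl : l.Prime) (hlp : l ≠ p)
    {y u : Module.End F V} (hyu : Commute y u) (hy : y ^ l = 1) (hy1 : y ≠ 1) (hu : u ^ p = 1)
    (he : ∀ a, l ∣ Nat.card F ^ a - 1 → e ∣ a) (hV : finrank F V = e + 2) (he3 : 3 ≤ e) :
    finrank F (LinearMap.range (u - 1)) ≤ 1 := by
  have := Fact.mk hl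
  have hlq : ¬ l ∣ Nat.card F := by
    intro h
    have : Fintype F := Fintype.ofFinite F
    obtain ⟨m, hm, hm2⟩ := FiniteField.card F p
    rw [Nat.card_eq_fintype_card, hm2] at h
    exact hlp ((Nat.prime_dvd_prime_iff_eq hl hm).mp (hl.dvd_of_dvd_pow h))
  have : Nontrivial V := Module.nontrivial_of_finrank_pos (R := F) (by omega)
  have hnil : (u - 1) ^ p = 0 := by
    have : CharP (Module.End F V) p := charP_of_injective_algebraMap (algebraMap F (Module.End F V)).injective p
    rw [sub_pow_char_of_commute p (Commute.one_right u), hu, one_pow, sub_self]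
  have hyD : ∀ v, y ((u - 1) v) = (u - 1) (y v) := by
    intro v
    have h1 : Commute y (u - 1) := hyu.sub_right (Commute.one_right y)
    exact LinearMap.congr_fun h1.eq v
  have hyY : ∀ v, (y - 1) ((u - 1) v) = (u - 1) ((y - 1) v) := by
    intro v
    have h1 : Commute (y - 1) (u - 1) :=
      Commute.sub_left (hyu.sub_right (Commute.one_right y)) (Commute.one_left _)
    exact LinearMap.congr_fun h1.eq v
  -- fixed points of y
  have h1 := card_modEq_fixed y hy ⊤ (fun w _ => Submodule.mem_top)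
  rw [finrank_top, top_inf_eq] at h1
  have hcle : finrank F (LinearMap.ker (y - 1)) ≤ finrank F V := Submodule.finrank_le _
  have h2 := dvd_sub_of_modEq hl Nat.card_pos hlq he hcle h1
  have hcne : finrank F (LinearMap.ker (y - 1)) ≠ finrank F V := by
    intro h
    have h3 := Submodule.eq_top_of_finrank_eq h
    rw [LinearMap.ker_eq_top, sub_eq_zero] at h3
    exact hy1 h3
  have hc : finrank F (LinearMap.ker (y - 1)) = 2 := by
    obtain ⟨t, ht⟩ := h2
    have ht1 : t = 1 := by
      rcases Nat.lt_or_ge t 1 with h3 | h3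
      · have : t = 0 := by omega
        subst this
        omega
      · by_contra h4
        have h5 : 2 ≤ t := by omega
        have h6 : e * 2 ≤ e * t := Nat.mul_le_mul_left _ h5
        omega
    subst ht1
    omega
  have hC0 : LinearMap.ker (y - 1) ≠ ⊥ := by
    intro h
    rw [h, finrank_bot] at hc
    omega
  obtain ⟨w, hw, hw0, hw1⟩ := exists_ker hnil (W := LinearMap.ker (y - 1)) (by
    intro w hw
    rw [LinearMap.mem_ker] at hw ⊢
    rw [hyY, hw, map_zero]) hC0
  have hk' : finrank F (LinearMap.ker (u - 1) ⊓ LinearMap.ker (y - 1) : Submodule F V) ≠ 0 := by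
    rw [Ne, Submodule.finrank_eq_zero]
    intro h
    have h3 : w ∈ (LinearMap.ker (u - 1) ⊓ LinearMap.ker (y - 1) : Submodule F V) :=
      ⟨LinearMap.mem_ker.mpr hw1, hw⟩
    rw [h, Submodule.mem_bot] at h3
    exact hw0 h3
  have h3 := card_modEq_fixed y hy (LinearMap.ker (u - 1)) (by
    intro w hw
    rw [LinearMap.mem_ker] at hw ⊢
    rw [← hyD, hw, map_zero])
  have hkle : finrank F (LinearMap.ker (u - 1) ⊓ LinearMap.ker (y - 1) : Submodule F V) ≤
      finrank F (LinearMap.ker (u - 1)) := Submodule.finrank_mono inf_le_left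
  have h4 := dvd_sub_of_modEq hl Nat.card_pos hlq he hkle h3
  have hkne : finrank F (LinearMap.ker (u - 1) ⊓ LinearMap.ker (y - 1) : Submodule F V) ≠
      finrank F (LinearMap.ker (u - 1)) := by
    intro h
    have h5 : LinearMap.ker (u - 1) ≤ LinearMap.ker (y - 1) :=
      inf_eq_left.mp (Submodule.eq_of_le_of_finrank_eq inf_le_left h)
    have hW0 : LinearMap.range (y - 1) ≠ ⊥ := by
      intro h6
      rw [LinearMap.range_eq_bot, sub_eq_zero] at h6
      exact hy1 h6
    obtain ⟨w, ⟨v, rfl⟩, hw0, hw1⟩ := exists_ker hnil (W := LinearMap.range (y - 1)) (by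
      rintro _ ⟨v, rfl⟩
      rw [← hyY]
      exact ⟨_, rfl⟩) hW0
    have h6 : y ((y - 1) v) = (y - 1) v := by
      have h7 := h5 (LinearMap.mem_ker.mpr hw1)
      rw [LinearMap.mem_ker] at h7
      have h8 : y ((y - 1) v) - (y - 1) v = 0 := h7
      exact sub_eq_zero.mp h8
    have h7 : ∀ i : ℕ, (y ^ i) v = v + i • (y - 1) v := by
      intro i
      induction i with
      | zero => simp
      | succ i ih =>
        rw [pow_succ', Module.End.mul_apply, ih, map_add, map_nsmul, h6, succ_nsmul]
        have h8 : y v = v + (y - 1) v := by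
          rw [LinearMap.sub_apply, Module.End.one_apply]
          abel
        rw [h8]
        abel
    have h8 := h7 l
    rw [hy, Module.End.one_apply] at h8
    have h9 : l • (y - 1) v = 0 := by
      have h10 : v + l • (y - 1) v = v + 0 := by rw [← h8, add_zero]
      exact add_left_cancel h10
    rw [← Nat.cast_smul_eq_nsmul F] at h9
    have hl0 : (l : F) ≠ 0 := by
      intro h10
      rw [CharP.cast_eq_zero_iff F p] at h10
      exact hlp ((Nat.prime_dvd_prime_iff_eq Fact.out hl).mp h10).symm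
    exact hw0 ((smul_eq_zero.mp h9).resolve_left hl0)
  have h5 : e ≤ finrank F (LinearMap.ker (u - 1)) -
      finrank F (LinearMap.ker (u - 1) ⊓ LinearMap.ker (y - 1) : Submodule F V) :=
    Nat.le_of_dvd (by omega) h4
  have h6 := LinearMap.finrank_range_add_finrank_ker (u - 1)
  omega

omit [Finite F] [FiniteDimensional F V] in
/-- Orthogonal groups in odd characteristic contain no transvections. -/
theorem eq_one_of_finrank_range_le_one {p : ℕ} [Fact p.Prime] [CharP F p] (hp2 : p ≠ 2)
    (Q : QuadraticForm F V) (hQ : ∀ w, (∀ v, QuadraticMap.polar Q v w = 0) → w = 0) {u : Module.End F V}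
    (huQ : ∀ v, Q (u v) = Q v) (hu : u ^ p = 1) (hr : finrank F (LinearMap.range (u - 1)) ≤ 1)
    [FiniteDimensional F (LinearMap.range (u - 1))] : u = 1 := by
  by_contra hu1
  obtain ⟨⟨w0, hw0r⟩, hspan⟩ := (finrank_le_one_iff (K := F)).mp hr
  have hex : ∀ v, ∃ c : F, (u - 1) v = c • w0 := by
    intro v
    obtain ⟨c, hc⟩ := hspan ⟨(u - 1) v, ⟨v, rfl⟩⟩
    exact ⟨c, (congrArg Subtype.val hc).symm⟩
  choose κ hκ using hex
  have hu' : ∀ v, u v = v + κ v • w0 := by
    intro v
    rw [← hκ v, LinearMap.sub_apply, Module.End.one_apply]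
    abel
  obtain ⟨v1, hv1⟩ : ∃ v1, (u - 1) v1 ≠ 0 := by
    by_contra hcon
    push Not at hcon
    apply hu1
    rw [← sub_eq_zero]
    ext v
    exact hcon v
  have hκ1 : κ v1 ≠ 0 := by
    intro h
    rw [hκ, h, zero_smul] at hv1
    exact hv1 rfl
  have hw0 : w0 ≠ 0 := by
    rintro rfl
    rw [hκ, smul_zero] at hv1
    exact hv1 rfl
  have hadd : ∀ v w, κ (v + w) = κ v + κ w := by
    intro v w
    have h1 : κ (v + w) • w0 = (κ v + κ w) • w0 := by
      rw [← hκ, map_add, hκ, hκ, add_smul]
    have h2 : (κ (v + w) - (κ v + κ w)) • w0 = 0 := by rw [sub_smul, h1, sub_self]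
    exact sub_eq_zero.mp ((smul_eq_zero.mp h2).resolve_right hw0)
  have hκ0 : κ w0 = 0 := by
    have h1 : ∀ i : ℕ, (u ^ i) w0 = (1 + κ w0) ^ i • w0 := by
      intro i
      induction i with
      | zero => simp
      | succ i ih =>
        rw [pow_succ', Module.End.mul_apply, ih, map_smul, hu' w0, pow_succ, mul_smul, add_smul, one_smul]
    have h2 := h1 p
    rw [hu, Module.End.one_apply] at h2
    have h3 : ((1 + κ w0) ^ p - 1) • w0 = 0 := by rw [sub_smul, ← h2, one_smul, sub_self]
    have h4 := (smul_eq_zero.mp h3).resolve_right hw0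
    rw [add_pow_char, one_pow, add_sub_cancel_left] at h4
    exact pow_eq_zero_iff (Fact.out : p.Prime).ne_zero |>.mp h4
  have hQ1 : ∀ v, κ v * (κ v * Q w0 + QuadraticMap.polar Q v w0) = 0 := by
    intro v
    have h1 := huQ v
    rw [hu' v, QuadraticMap.map_add Q v (κ v • w0), QuadraticMap.polar_smul_right, QuadraticMap.map_smul] at h1
    have h2 : κ v * (κ v * Q w0 + QuadraticMap.polar Q v w0) =
        (Q v + (κ v * κ v) • Q w0 + κ v • QuadraticMap.polar Q v w0) - Q v := by
      rw [smul_eq_mul, smul_eq_mul]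
      ring
    rw [h2, h1, sub_self]
  have hQ2 : ∀ v, QuadraticMap.polar Q v w0 = - (κ v * Q w0) := by
    intro v
    by_cases hv : κ v = 0
    · have h1 := (mul_eq_zero.mp (hQ1 (v + v1))).resolve_left (by rw [hadd, hv, zero_add]; exact hκ1)
      have h2 := (mul_eq_zero.mp (hQ1 v1)).resolve_left hκ1
      rw [hadd, hv, zero_add, QuadraticMap.polar_add_left] at h1
      rw [hv, zero_mul, neg_zero]
      have h3 : QuadraticMap.polar Q v w0 = (κ v1 * Q w0 + (QuadraticMap.polar Q v w0 + QuadraticMap.polar Q v1 w0)) -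
          (κ v1 * Q w0 + QuadraticMap.polar Q v1 w0) := by ring
      rw [h3, h1, h2, sub_self]
    · have h1 := (mul_eq_zero.mp (hQ1 v)).resolve_left hv
      exact eq_neg_of_add_eq_zero_right h1
  have hQ0 : Q w0 = 0 := by
    have h1 := hQ2 w0
    rw [hκ0, zero_mul, neg_zero, QuadraticMap.polar_self, two_nsmul] at h1
    have h2 : (2 : F) * Q w0 = 0 := by rw [two_mul, h1]
    have h3 : (2 : F) ≠ 0 := by
      intro h4
      have h5 : ((2 : ℕ) : F) = 0 := by exact_mod_cast h4
      rw [CharP.cast_eq_zero_iff F p] at h5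
      exact hp2 ((Nat.prime_dvd_prime_iff_eq Fact.out Nat.prime_two).mp h5)
    exact (mul_eq_zero.mp h2).resolve_left h3
  exact hw0 (hQ w0 fun v => by rw [hQ2, hQ0, mul_zero, neg_zero])

end Cfsg.Agent.H425.NoCommute
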