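import Cfsg.Agent.H425.ChrK_m3
import Cfsg.Agent.Prune
set_option linter.all false
prune_inst 0x7f00000000000000000000000000000000000000000000000000000000000000000000000000000000000000000000000000000000000000000000000000000000000000000000000000000000000000003fffffffffffffffffffffffffffbeffbdffffffff
open scoped Cfsg.Agent.FastGrp

-- part: H425/ChrPlus
section
/-!
# Groups of Lie type in the characteristic of `D_n(p)` whose prime graph almost covers that of `D_n(p)` (helper425)
-/

set_option autoImplicit false

namespace Cfsg.Agent.H425.Chr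

open Cfsg Cfsg.Agent.OrdDiv Cfsg.Agent.H436 Cfsg.Agent.H425.PartP

variable {p f c n : ℕ} {g : Grp}

theorem Dat.q_ne (H : Dat p f c g) : qOf g ≠ 0 := by
  rw [H.hq]
  exact (pow_pos H.hp.pos _).ne'

theorem two_le_top (hg : Cond g) (hq : qOf g ≠ 0) : 2 ≤ top g := by
  by_cases h : isPSL g
  · cases g with
    | psl n q => exact hg.1
    | _ => exact h.elim
  · have := four_le_top hg hq h
    omega

theorem Dat.in_top (H : Dat p f c g) (hf : 2 ≤ f) : In p c (f * top g) := by
  rcases Nat.lt_or_ge (top g) 3 with h3 | h3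
  · have h2 := two_le_top H.cond H.q_ne
    have h4 : top g = 2 := by omega
    have h5 : isPSL g := by
      by_contra hn
      have := four_le_top H.cond H.q_ne hn
      omega
    cases g with
    | psl n q =>
      obtain rfl : n = 2 := h4
      obtain rfl : q = p ^ f := H.hq
      obtain ⟨w, hw⟩ := exists_prim (q := p) (e := f * 2) H.hp.two_le (by omega) (fun h => H.hp2 h.1)
      refine ⟨w, hw, prim_psl_two H.eq (prim_of_pow H.hf hw) ?_⟩
      have := hw.odd (by omega)
      omega
    | _ => exact h5.elim
  · exact H.in_mul h3 (K_top H.cond H.q_ne)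

theorem Dat.dvd_of_in (H : Dat p f c g) (hf : 2 ≤ f) {N e : ℕ} (hN : ∀ e, 3 ≤ e → In p c e → e ≤ N)
    (he : 3 ≤ e) (h : In p c e) (h2 : N < 2 * e) : f ∣ e := by
  have htop := two_le_top H.cond H.q_ne
  have h3 : f * 2 ≤ N := by
    have h4 : f * 2 ≤ f * top g := Nat.mul_le_mul_left _ htop
    exact h4.trans (hN _ (by omega) (H.in_top hf))
  have hg : 0 < Nat.gcd e f := Nat.gcd_pos_of_pos_right _ (Nat.pos_of_ne_zero H.hf)
  have h5 : e = Nat.gcd e f * (e / Nat.gcd e f) := (Nat.mul_div_cancel' (Nat.gcd_dvd_left _ _)).symm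
  rcases Nat.lt_or_ge (e / Nat.gcd e f) 3 with hd | hd
  · have h6 := Nat.gcd_dvd_right e f
    obtain ⟨j, hj⟩ := h6
    generalize e / Nat.gcd e f = d at h5 hd
    generalize Nat.gcd e f = G at *
    have h7 : d = 0 ∨ d = 1 ∨ d = 2 := by omega
    have hj0 : j ≠ 0 := by
      rintro rfl
      have := H.hf
      omega
    rcases h7 with rfl | rfl | rfl
    · omega
    · exfalso
      have : G * 1 ≤ G * j := Nat.mul_le_mul_left _ (by omega)
      omega
    · have h8 : G * j < G * 2 := by omega
      have h9 := Nat.lt_of_mul_lt_mul_left h8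
      have h10 : j = 1 := by omega
      subst h10
      rw [mul_one] at hj
      rw [h5, hj]
      exact Dvd.intro _ rfl
  · have h6 := H.in_lcm hd h
    obtain ⟨j, hj⟩ := Nat.dvd_lcm_left e f
    have h7 : Nat.lcm e f ≠ 0 := Nat.lcm_ne_zero (by omega) H.hf
    have h8 : j ≠ 0 := by
      rintro rfl
      exact h7 (by rw [hj, mul_zero])
    have h9 : e * 1 ≤ e * j := Nat.mul_le_mul_left _ (by omega)
    have h10 := hN _ (by omega) h6
    have h11 : j = 1 := by
      by_contra hne
      have : e * 2 ≤ e * j := Nat.mul_le_mul_left _ (by omega)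
      omega
    rw [h11, mul_one] at hj
    exact hj ▸ Nat.dvd_lcm_right e f

/-- the classes of the large coclique of `D_n(p)` -/
def MPlus (n e : ℕ) : Prop := (e % 2 = 0 ∧ n < e ∧ e ≤ 2 * (n - 1)) ∨ (e % 2 = 1 ∧ n < 2 * e ∧ e ≤ n)

/-- The hypotheses on the order `c` of a simple group, coming from the prime graph of `D_n(p)`. -/
structure Plus (p n c : ℕ) : Prop where
  hn : 5 ≤ n
  ppd : ∀ e, 3 ≤ e → In p c e → e ≤ 2 * (n - 1) ∧ (e % 2 = 1 → e ≤ n)
  miss : ∀ k l, k ≠ l → MPlus n k → MPlus n l → In p c k ∨ In p c l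
  six : n = 6 → In p c 6 ∨ In p c 8

/-- odd classes and `f = 2, 4` -/
theorem Dat.in_odd (H : Dat p f c g) {e : ℕ} (he : 3 ≤ e) (hodd : e % 2 = 1) (hf : f = 2 ∨ f = 4) (h : In p c e) :
    K g e ∧ In p c (f * e) := by
  have h1 : Nat.gcd e f = 1 := by
    have h2 : Nat.Coprime e 2 := (Nat.coprime_two_left.mpr (Nat.odd_iff.2 hodd)).symm
    rcases hf with rfl | rfl
    · exact h2
    · exact Nat.Coprime.pow_right 2 h2
  have h2 : e / Nat.gcd e f = e := by rw [h1, Nat.div_one]
  have h3 := (H.in_iff (by rwa [h2])).1 h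
  rw [h2] at h3
  exact ⟨h3, H.in_mul he h3⟩

theorem Plus.f_le (P : Plus p n c) (H : Dat p f c g) : f ≤ 2 := by
  have hn := P.hn
  by_contra hf
  push Not at hf
  have hN : ∀ e, 3 ≤ e → In p c e → e ≤ 2 * (n - 1) := fun e he h => (P.ppd e he h).1
  rcases Nat.lt_or_ge n 7 with h7 | h7
  · -- small `n`
    have h1 := H.in_top (by omega)
    have htop := two_le_top H.cond H.q_ne
    have h2 := P.ppd _ (by nlinarith only [hf, htop]) h1
    have hpsl : isPSL g := by
      by_contra hne
      have h4 := four_le_top H.cond H.q_ne hne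
      have : 3 * 4 ≤ f * top g := Nat.mul_le_mul hf h4
      omega
    cases g with
    | psl m q =>
      have h2a : f * m ≤ 2 * (n - 1) := h2.1
      have h2b : (f * m) % 2 = 1 → f * m ≤ n := h2.2
      have hm : 2 ≤ m := htop
      have hm2 : m = 2 := by
        by_contra hne
        have h5 : 3 * m ≤ f * m := Nat.mul_le_mul_right _ hf
        have h6 : m = 3 := by (clear * - h7 h2a hm hne h5; omega)
        subst h6
        have h7 : f = 3 := by (clear * - hf h7 h2a; omega)
        subst h7
        have := h2b (by norm_num)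
        omega
      subst hm2
      have key : ∀ e, 3 ≤ e / Nat.gcd e f → ¬ In p c e := fun e he h => by
        have h3 := (H.in_iff he).1 h
        have h4 : e / Nat.gcd e f ≤ 2 := h3
        omega
      have h5 : n = 5 ∨ n = 6 := by omega
      have h6 : f = 3 ∨ f = 4 ∨ f = 5 := by (clear * - hf h2a h5; omega)
      rcases h5 with rfl | rfl
      · rcases h6 with rfl | rfl | rfl
        · rcases P.miss 5 8 (by norm_num) (by unfold MPlus; norm_num) (by unfold MPlus; norm_num) with h | h
          · exact key 5 (by decide) h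
          · exact key 8 (by decide) h
        · rcases P.miss 3 5 (by norm_num) (by unfold MPlus; norm_num) (by unfold MPlus; norm_num) with h | h
          · exact key 3 (by decide) h
          · exact key 5 (by decide) h
        · omega
      · rcases h6 with rfl | rfl | rfl
        · rcases P.miss 5 8 (by norm_num) (by unfold MPlus; norm_num) (by unfold MPlus; norm_num) with h | h
          · exact key 5 (by decide) h
          · exact key 8 (by decide) h
        · rcases P.miss 5 10 (by norm_num) (by unfold MPlus; norm_num) (by unfold MPlus; norm_num) with h | h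
          · exact key 5 (by decide) h
          · exact key 10 (by decide) h
        · rcases P.six rfl with h | h
          · exact key 6 (by decide) h
          · exact key 8 (by decide) h
    | _ => exact hpsl
  · have key : ∀ e, n < e → In p c e → f ∣ e := fun e he h =>
      H.dvd_of_in (by omega) hN (by omega) h (by omega)
    have m1 : MPlus n (2 * n - 2) := Or.inl ⟨by omega, by omega, by omega⟩
    have m2 : MPlus n (2 * n - 4) := Or.inl ⟨by omega, by omega, by omega⟩
    have m3 : MPlus n (2 * n - 6) := Or.inl ⟨by omega, by omega, by omega⟩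
    have k1 := key (2 * n - 2) (by omega)
    have k2 := key (2 * n - 4) (by omega)
    have k3 := key (2 * n - 6) (by omega)
    have no2 : ∀ {a b : ℕ}, f ∣ a → f ∣ b → a = b + 2 → False := fun {a b} ha hb hab => by
      have h := (Nat.dvd_sub ha hb)
      rw [hab, Nat.add_sub_cancel_left] at h
      have := Nat.le_of_dvd (by norm_num) h
      omega
    have i12 := P.miss _ _ (by omega) m1 m2
    have i23 := P.miss _ _ (by omega) m2 m3
    have i13 := P.miss _ _ (by omega) m1 m3
    by_cases c2 : In p c (2 * n - 4)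
    · rcases i13 with c1 | c3
      · exact no2 (k1 c1) (k2 c2) (by omega)
      · exact no2 (k2 c2) (k3 c3) (by omega)
    · have c1 := i12.resolve_right c2
      have c3 := i23.resolve_left c2
      have h4 : f ∣ 4 := by
        have h := (Nat.dvd_sub (k1 c1) (k3 c3))
        rwa [show 2 * n - 2 - (2 * n - 6) = 4 by omega] at h
      have h5 : f = 4 := by
        have h6 := Nat.le_of_dvd (by norm_num) h4
        have h7 : f = 3 ∨ f = 4 := by omega
        rcases h7 with rfl | rfl
        · norm_num at h4
        · rfl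
      -- the odd classes are missing too
      obtain ⟨o, ho, ho2⟩ : ∃ o, (o = n ∨ o = n - 1) ∧ o % 2 = 1 := by
        rcases Nat.mod_two_eq_zero_or_one n with h | h
        · exact ⟨n - 1, Or.inr rfl, by omega⟩
        · exact ⟨n, Or.inl rfl, h⟩
      have mo : MPlus n o := Or.inr ⟨ho2, by omega, by omega⟩
      have io := (P.miss _ _ (by omega) m2 mo).resolve_left c2
      subst h5
      have h6 := H.in_odd (by omega) ho2 (Or.inr rfl) io
      have h7 := hN _ (by omega) h6.2
      omega

theorem Plus.two (P : Plus p n c) (H : Dat p 2 c g) : g = .psl (n - 1) (p ^ 2) := by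
  have hn := P.hn
  have hN : ∀ e, 3 ≤ e → In p c e → e ≤ 2 * (n - 1) := fun e he h => (P.ppd e he h).1
  have h1 := H.in_top le_rfl
  have htop := two_le_top H.cond H.q_ne
  have h2 := hN _ (by omega) h1
  obtain ⟨o, ho, ho2⟩ : ∃ o, (o = n ∨ o = n - 1) ∧ o % 2 = 1 := by
    rcases Nat.mod_two_eq_zero_or_one n with h | h
    · exact ⟨n - 1, Or.inr rfl, by omega⟩
    · exact ⟨n, Or.inl rfl, h⟩
  have mo : MPlus n o := Or.inr ⟨ho2, by omega, by omega⟩
  have ko : In p c o → K g o := fun h => (H.in_odd (by omega) ho2 (Or.inl rfl) h).1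
  by_cases hpsl : isPSL g
  · cases g with
    | psl m q =>
      obtain rfl : q = p ^ 2 := H.hq
      change 2 * m ≤ _ at h2
      have h3 : m = n - 1 := by
        by_contra hne
        have h4 : m ≤ n - 2 := by omega
        rcases P.miss (2 * n - 2) o (by omega) (Or.inl ⟨by omega, by omega, by omega⟩) mo with h | h
        · have h5 : (2 * n - 2) / Nat.gcd (2 * n - 2) 2 = n - 1 := by
            rw [Nat.gcd_eq_right (show 2 ∣ 2 * n - 2 by omega)]
            (clear * -; omega)
          have h6 := (H.in_iff (by rw [h5]; omega)).1 h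
          rw [h5] at h6
          have h7 : n - 1 ≤ m := h6
          omega
        · have h7 : o ≤ m := ko h
          omega
      rw [h3]
    | _ => exact hpsl.elim
  · exfalso
    obtain ⟨k, hk, hk2⟩ : ∃ k, (k = n - 1 ∨ k = n - 2) ∧ k % 2 = 1 := by
      rcases Nat.mod_two_eq_zero_or_one n with h | h
      · exact ⟨n - 1, Or.inl rfl, by omega⟩
      · exact ⟨n - 2, Or.inr rfl, by omega⟩
    rcases P.miss (2 * k) o (by omega) (Or.inl ⟨by omega, by (clear * - hn hk; omega), by (clear * - hk; omega)⟩) mo with h | h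
    · have h5 : (2 * k) / Nat.gcd (2 * k) 2 = k := by
        rw [Nat.gcd_eq_right (Nat.dvd_mul_right 2 k)]
        omega
      have h6 := (H.in_iff (by rw [h5]; omega)).1 h
      rw [h5] at h6
      have h7 := odd_le_top H.cond H.q_ne hpsl (by omega) hk2 h6
      (clear * - h2 hk h7; omega)
    · have h7 := odd_le_top H.cond H.q_ne hpsl (by (clear * - htop h2 ho ho2; omega)) ho2 (ko h)
      (clear * - h2 ho h7; omega)

/-- the groups which remain -/
def SurvPlus (p n : ℕ) (g : Grp) : Prop :=
  g = .oplus n p ∨ g = .psp (n - 1) p ∨ g = .oodd (n - 1) p ∨ g = .ominus (n - 1) p ∨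
    (n % 2 = 0 ∧ g = .oplus (n - 1) p) ∨ (n = 10 ∧ g = .e7 p) ∨ (n = 5 ∧ g = .psl 6 p)

theorem Plus.one (P : Plus p n c) (H : Dat p 1 c g) : SurvPlus p n g := by
  have hn := P.hn
  have hin : ∀ {e : ℕ}, 3 ≤ e → (In p c e ↔ K g e) := fun he => H.in_one he
  have hN : ∀ e, 3 ≤ e → K g e → e ≤ 2 * (n - 1) ∧ (e % 2 = 1 → e ≤ n) := fun e he h =>
    P.ppd e he ((hin he).2 h)
  have hq := H.hq
  rw [pow_one] at hq
  have mis : ∀ k l, k ≠ l → MPlus n k → MPlus n l → ¬ K g k → ¬ K g l → False := fun k l hkl hk hl h1 h2 => by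
    have hk3 : 3 ≤ k := by unfold MPlus at hk; omega
    have hl3 : 3 ≤ l := by unfold MPlus at hl; omega
    rcases P.miss k l hkl hk hl with h | h
    · exact h1 ((hin hk3).1 h)
    · exact h2 ((hin hl3).1 h)
  obtain ⟨o, ho, ho2⟩ : ∃ o, (o = n ∨ o = n - 1) ∧ o % 2 = 1 := by
    rcases Nat.mod_two_eq_zero_or_one n with h | h
    · exact ⟨n - 1, Or.inr rfl, by omega⟩
    · exact ⟨n, Or.inl rfl, h⟩
  have mo : MPlus n o := Or.inr ⟨ho2, by omega, by omega⟩
  have m1 : MPlus n (2 * n - 2) := Or.inl ⟨by omega, by omega, by omega⟩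
  have m2 : MPlus n (2 * n - 4) := Or.inl ⟨by omega, by omega, by omega⟩
  have htop := K_top H.cond H.q_ne
  cases g with
  | psl m q =>
    obtain rfl : q = p := hq
    have hm : 2 ≤ m := H.cond.1
    have h1 : 2 * n - 4 ≤ m := by
      by_contra hlt
      exact mis _ _ (by omega) m1 m2 (fun h => by rw [K_psl] at h; omega) (fun h => by rw [K_psl] at h; omega)
    have h2 := (hN (2 * n - 5) (by omega) (K_psl.2 (by omega))).2 (by omega)
    have h3 : n = 5 := by omega
    subst h3
    have h4 : m = 6 := by
      by_contra hne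
      have := (hN 7 (by omega) (K_psl.2 (by omega))).2 (by omega)
      omega
    subst h4
    exact Or.inr (Or.inr (Or.inr (Or.inr (Or.inr (Or.inr ⟨rfl, rfl⟩)))))
  | psp m q =>
    obtain rfl : q = p := hq
    have hm : 2 ≤ m := H.cond.1
    have h1 : 2 * m ≤ _ := (hN _ (show 3 ≤ 2 * m by omega) htop).1
    have h2 : m = n - 1 := by
      by_contra hne
      exact mis _ _ (by omega) m1 mo (fun h => by rw [K_psp (by omega)] at h; omega)
        (fun h => by rw [K_psp (by omega)] at h; omega)
    subst h2
    exact Or.inr (Or.inl rfl)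
  | oodd m q =>
    obtain rfl : q = p := hq
    have hm : 3 ≤ m := H.cond.1
    have h1 : 2 * m ≤ _ := (hN _ (show 3 ≤ 2 * m by omega) htop).1
    have h2 : m = n - 1 := by
      by_contra hne
      exact mis _ _ (by omega) m1 mo (fun h => by rw [K_oodd (by omega)] at h; omega)
        (fun h => by rw [K_oodd (by omega)] at h; omega)
    subst h2
    exact Or.inr (Or.inr (Or.inl rfl))
  | psu m q =>
    exfalso
    have hm : 3 ≤ m := H.cond.1
    have h1 : 2 * (m - (1 - m % 2)) ≤ _ := (hN _ (show 3 ≤ 2 * (m - (1 - m % 2)) by omega) htop).1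
    obtain ⟨k, hk, hk2⟩ : ∃ k, (k = 2 * n - 2 ∨ k = 2 * n - 4) ∧ k % 4 = 0 := by
      rcases Nat.mod_two_eq_zero_or_one n with h | h
      · exact ⟨2 * n - 4, Or.inr rfl, by omega⟩
      · exact ⟨2 * n - 2, Or.inl rfl, by omega⟩
    have mk : MPlus n k := by rcases hk with rfl | rfl <;> assumption
    exact mis _ _ (by omega) mk mo (fun h => by rw [K_psu (by omega)] at h; omega)
        (fun h => by rw [K_psu (by omega)] at h; (clear * - ho ho2 hm h1 h; omega))
  | oplus m q =>
    obtain rfl : q = p := hq
    have hm : 4 ≤ m := H.cond.1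
    have h1 : 2 * (m - 1) ≤ _ := (hN _ (show 3 ≤ 2 * (m - 1) by omega) htop).1
    rcases Nat.lt_or_ge m n with h2 | h2
    · have h3 : m = n - 1 := by
        by_contra hne
        exact mis _ _ (by omega) m1 m2 (fun h => by rw [K_oplus (by omega) (by omega)] at h; omega)
          (fun h => by rw [K_oplus (by omega) (by omega)] at h; omega)
      subst h3
      have h4 : n % 2 = 0 := by
        by_contra hne
        exact mis _ _ (by omega) m1 mo (fun h => by rw [K_oplus (by omega) (by omega)] at h; (clear * - hn h; omega))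
          (fun h => by rw [K_oplus (by omega) (by omega)] at h; omega)
      exact Or.inr (Or.inr (Or.inr (Or.inr (Or.inl ⟨h4, rfl⟩))))
    · obtain rfl : m = n := by omega
      exact Or.inl rfl
  | ominus m q =>
    obtain rfl : q = p := hq
    have hm : 4 ≤ m := H.cond.1
    have h1 : 2 * m ≤ _ := (hN _ (show 3 ≤ 2 * m by omega) htop).1
    have h2 : m = n - 1 := by
      by_contra hne
      exact mis _ _ (by omega) m1 mo (fun h => by rw [K_ominus (by omega) (by omega)] at h; omega)
        (fun h => by rw [K_ominus (by omega) (by omega)] at h; omega)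
    subst h2
    exact Or.inr (Or.inr (Or.inr (Or.inl rfl)))
  | g2 q =>
    exact (mis _ _ (by omega) m1 mo (fun h => by have := K_g2 h; omega) (fun h => by have := K_g2 h; omega)).elim
  | f4 q =>
    exfalso
    have h1 : 12 ≤ _ := (hN 12 (by norm_num) htop).1
    obtain ⟨k, hk, hk2⟩ : ∃ k, (k = 2 * n - 2 ∨ k = 2 * n - 4) ∧ k ≠ 12 := by
      by_cases h : 2 * n - 2 = 12
      · exact ⟨2 * n - 4, Or.inr rfl, by omega⟩
      · exact ⟨2 * n - 2, Or.inl rfl, h⟩
    have mk : MPlus n k := by rcases hk with rfl | rfl <;> assumption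
    exact mis _ _ (by omega) mk mo (fun h => by have := K_f4 h; omega) (fun h => by have := K_f4 h; (clear * - ho ho2 h1 this; omega))
  | e6 q =>
    exfalso
    have h1 : 12 ≤ _ := (hN 12 (by norm_num) htop).1
    have h2 := (hN 9 (by norm_num) (Or.inr (Or.inr (Or.inr (Or.inr (Or.inl dvd_rfl)))))).2 (by norm_num)
    exact mis _ _ (by omega) m1 m2 (fun h => by have := K_e6 h; omega) (fun h => by have := K_e6 h; omega)
  | e7 q =>
    obtain rfl : q = p := hq
    have h1 : 18 ≤ _ := (hN 18 (by norm_num) htop).1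
    have h2 : n = 10 := by
      by_contra hne
      exact mis _ _ (by omega) m1 mo (fun h => by have := K_e7 h; omega) (fun h => by have := K_e7 h; omega)
    exact Or.inr (Or.inr (Or.inr (Or.inr (Or.inr (Or.inl ⟨h2, rfl⟩)))))
  | e8 q =>
    exfalso
    have h1 : 30 ≤ _ := (hN 30 (by norm_num) htop).1
    have m3 : MPlus n (2 * n - 6) := Or.inl ⟨by omega, by omega, by omega⟩
    rcases Nat.lt_or_ge n 17 with h2 | h2
    · exact mis _ _ (by omega) m2 m3 (fun h => by have := K_e8 h; omega) (fun h => by have := K_e8 h; omega)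
    · rcases Nat.lt_or_ge n 18 with h3 | h3
      · exact mis _ _ (by omega) m1 m3 (fun h => by have := K_e8 h; omega) (fun h => by have := K_e8 h; omega)
      · exact mis _ _ (by omega) m1 m2 (fun h => by have := K_e8 h; omega) (fun h => by have := K_e8 h; omega)
  | te6 q =>
    exfalso
    have h1 : 18 ≤ _ := (hN 18 (by norm_num) htop).1
    obtain ⟨k, hk, hk2⟩ : ∃ k, (k = 2 * n - 2 ∨ k = 2 * n - 4) ∧ k ≠ 18 := by
      by_cases h : 2 * n - 2 = 18
      · exact ⟨2 * n - 4, Or.inr rfl, by omega⟩
      · exact ⟨2 * n - 2, Or.inl rfl, h⟩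
    have mk : MPlus n k := by rcases hk with rfl | rfl <;> assumption
    exact mis _ _ (by omega) mk mo (fun h => by have := K_te6 h; omega) (fun h => by have := K_te6 h; (clear * - ho ho2 h1 this; omega))
  | td4 q =>
    exfalso
    have h1 : 12 ≤ _ := (hN 12 (by norm_num) htop).1
    obtain ⟨k, hk, hk2⟩ : ∃ k, (k = 2 * n - 2 ∨ k = 2 * n - 4) ∧ k ≠ 12 := by
      by_cases h : 2 * n - 2 = 12
      · exact ⟨2 * n - 4, Or.inr rfl, by omega⟩
      · exact ⟨2 * n - 2, Or.inl rfl, h⟩
    have mk : MPlus n k := by rcases hk with rfl | rfl <;> assumption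
    exact mis _ _ (by omega) mk mo (fun h => by have := K_td4 h; omega) (fun h => by have := K_td4 h; (clear * - ho ho2 h1 this; omega))
  | sz q =>
    exact (mis _ _ (by omega) m1 mo (fun h => by have := K_sz h; omega) (fun h => by have := K_sz h; omega)).elim
  | ree q =>
    exact (mis _ _ (by omega) m1 mo (fun h => by have := K_ree h; omega) (fun h => by have := K_ree h; omega)).elim
  | tf4 q =>
    exfalso
    obtain ⟨k, hk, hk2⟩ : ∃ k, (k = 2 * n - 2 ∨ k = 2 * n - 4) ∧ k ≠ 12 ∧ 8 ≤ k := by
      by_cases h : 2 * n - 2 = 12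
      · exact ⟨2 * n - 4, Or.inr rfl, by omega, by omega⟩
      · exact ⟨2 * n - 2, Or.inl rfl, h, by omega⟩
    have mk : MPlus n k := by rcases hk with rfl | rfl <;> assumption
    exact mis _ _ (by omega) mk mo (fun h => by have := K_tf4 h; omega) (fun h => by have := K_tf4 h; (clear * - hn ho ho2 this; omega))
  | _ => exact absurd rfl H.q_ne

/-- **The groups of Lie type in the characteristic of `D_n(p)`.** -/
theorem Plus.main (P : Plus p n c) (H : Dat p f c g) : SurvPlus p n g ∨ g = .psl (n - 1) (p ^ 2) := by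
  have h1 := P.f_le H
  have h2 := H.hf
  have h3 : f = 1 ∨ f = 2 := by omega
  rcases h3 with rfl | rfl
  · exact Or.inl (P.one H)
  · exact Or.inr (P.two H)

end Cfsg.Agent.H425.Chr
end

-- part: H425/ChrMinus
section
/-!
# Groups of Lie type in the characteristic of `²D_n(p)` (`n` odd) whose prime graph almost covers that of `²D_n(p)` (helper425)
-/

set_option autoImplicit false

namespace Cfsg.Agent.H425.Chr

open Cfsg Cfsg.Agent.OrdDiv Cfsg.Agent.H436 Cfsg.Agent.H425.PartP

variable {p f c n : ℕ} {g : Grp}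

theorem top_even (hg : Cond g) (hq : qOf g ≠ 0) (hn : ¬ isPSL g) : top g % 2 = 0 := by
  cases g with
  | psl n q => exact absurd trivial hn
  | psp m q => change (2 * m) % 2 = 0; omega
  | oodd m q => change (2 * m) % 2 = 0; omega
  | psu n q => change (2 * (n - (1 - n % 2))) % 2 = 0; omega
  | oplus m q => change (2 * (m - 1)) % 2 = 0; omega
  | ominus m q => change (2 * m) % 2 = 0; omega
  | g2 q => change 6 % 2 = 0; norm_num
  | f4 q => change 12 % 2 = 0; norm_num
  | e6 q => change 12 % 2 = 0; norm_num
  | e7 q => change 18 % 2 = 0; norm_num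
  | e8 q => change 30 % 2 = 0; norm_num
  | te6 q => change 18 % 2 = 0; norm_num
  | td4 q => change 12 % 2 = 0; norm_num
  | sz q => change 4 % 2 = 0; norm_num
  | ree q => change 6 % 2 = 0; norm_num
  | tf4 q => change 12 % 2 = 0; norm_num
  | _ => exact absurd rfl hq

/-- the classes of the large coclique of `²D_n(p)` -/
def MMinus (n e : ℕ) : Prop := (e % 2 = 0 ∧ n < e ∧ e ≤ 2 * n) ∨ (e % 2 = 1 ∧ n < 2 * e ∧ e ≤ n - 1)

/-- The hypotheses on the order `c` of a simple group, coming from the prime graph of `²D_n(p)`, `n` odd. -/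
structure Minus (p n c : ℕ) : Prop where
  hn : 5 ≤ n
  odd : n % 2 = 1
  ppd : ∀ e, 3 ≤ e → In p c e → e ≤ 2 * n ∧ (e % 2 = 1 → e ≤ n - 1)
  miss : ∀ k l, k ≠ l → MMinus n k → MMinus n l → In p c k ∨ In p c l

theorem Minus.f_le (P : Minus p n c) (H : Dat p f c g) : f ≤ 2 := by
  have hn := P.hn
  have hodd := P.odd
  by_contra hf
  push Not at hf
  have hN : ∀ e, 3 ≤ e → In p c e → e ≤ 2 * n := fun e he h => (P.ppd e he h).1
  have key : ∀ e, n < e → In p c e → f ∣ e := fun e he h =>
      H.dvd_of_in (by omega) hN (by omega) h (by omega)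
  have m1 : MMinus n (2 * n) := Or.inl ⟨by omega, by omega, by omega⟩
  have m2 : MMinus n (2 * n - 2) := Or.inl ⟨by omega, by omega, by omega⟩
  have m3 : MMinus n (2 * n - 4) := Or.inl ⟨by omega, by omega, by omega⟩
  have k1 := key (2 * n) (by omega)
  have k2 := key (2 * n - 2) (by omega)
  have k3 := key (2 * n - 4) (by omega)
  have no2 : ∀ {a b : ℕ}, f ∣ a → f ∣ b → a = b + 2 → False := fun {a b} ha hb hab => by
    have h := (Nat.dvd_sub ha hb)
    rw [hab, Nat.add_sub_cancel_left] at h
    have := Nat.le_of_dvd (by norm_num) h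
    omega
  have i12 := P.miss _ _ (by omega) m1 m2
  have i23 := P.miss _ _ (by omega) m2 m3
  have i13 := P.miss _ _ (by omega) m1 m3
  by_cases c2 : In p c (2 * n - 2)
  · rcases i13 with c1 | c3
    · exact no2 (k1 c1) (k2 c2) (by omega)
    · exact no2 (k2 c2) (k3 c3) (by omega)
  · have c1 := i12.resolve_right c2
    have c3 := i23.resolve_left c2
    have h4 : f ∣ 4 := by
      have h := (Nat.dvd_sub (k1 c1) (k3 c3))
      rwa [show 2 * n - (2 * n - 4) = 4 by omega] at h
    have h5 : f = 4 := by
      have h6 := Nat.le_of_dvd (by norm_num) h4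
      have h7 : f = 3 ∨ f = 4 := by omega
      rcases h7 with rfl | rfl
      · norm_num at h4
      · rfl
    have mo : MMinus n (n - 2) := Or.inr ⟨by omega, by omega, by omega⟩
    have io := (P.miss _ _ (by omega) m2 mo).resolve_left c2
    subst h5
    have h6 := H.in_odd (by omega) (by omega) (Or.inr rfl) io
    have h7 := hN _ (by omega) h6.2
    omega

theorem Minus.two (P : Minus p n c) (H : Dat p 2 c g) : g = .psl (n - 1) (p ^ 2) := by
  have hn := P.hn
  have hodd := P.odd
  have hN : ∀ e, 3 ≤ e → In p c e → e ≤ 2 * n := fun e he h => (P.ppd e he h).1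
  have h1 := H.in_top le_rfl
  have htop := two_le_top H.cond H.q_ne
  have h2 := hN _ (by omega) h1
  have mo : MMinus n (n - 2) := Or.inr ⟨by omega, by omega, by omega⟩
  have ko : In p c (n - 2) → K g (n - 2) := fun h => (H.in_odd (by omega) (by omega) (Or.inl rfl) h).1
  have kev : ∀ k, 3 ≤ k → In p c (2 * k) → K g k := fun k hk h => by
    have h5 : (2 * k) / Nat.gcd (2 * k) 2 = k := by
      rw [Nat.gcd_eq_right (Nat.dvd_mul_right 2 k)]
      omega
    have h6 := (H.in_iff (by rw [h5]; omega)).1 h
    rwa [h5] at h6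
  by_cases hpsl : isPSL g
  · cases g with
    | psl m q =>
      obtain rfl : q = p ^ 2 := H.hq
      change 2 * m ≤ _ at h2
      have h3 : m = n - 1 := by
        by_contra hne
        rcases Nat.lt_or_ge m n with h4 | h4
        · rcases P.miss (2 * n) (2 * (n - 1)) (by omega) (Or.inl ⟨by omega, by omega, by omega⟩)
              (Or.inl ⟨by omega, by omega, by omega⟩) with h | h
          · have h7 : n ≤ m := kev n (by omega) h
            omega
          · have h7 : n - 1 ≤ m := kev (n - 1) (by omega) h
            omega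
        · have h5 : n / Nat.gcd n 2 = n := by
            have h6 : Nat.Coprime n 2 := (Nat.coprime_two_left.mpr (Nat.odd_iff.2 hodd)).symm
            rw [h6.gcd_eq_one, Nat.div_one]
          have h6 : In p c n := (H.in_iff (by rw [h5]; omega)).2 (by rw [h5]; exact h4)
          have := (P.ppd n (by omega) h6).2 hodd
          omega
      rw [h3]
    | _ => exact hpsl.elim
  · exfalso
    have heven := top_even H.cond H.q_ne hpsl
    rcases P.miss (2 * n) (n - 2) (by omega) (Or.inl ⟨by omega, by omega, by omega⟩) mo with h | h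
    · have h7 := odd_le_top H.cond H.q_ne hpsl (by omega) hodd (kev n (by omega) h)
      omega
    · have h7 := odd_le_top H.cond H.q_ne hpsl (by omega) (by omega) (ko h)
      omega

/-- the groups which remain -/
def SurvMinus (p n : ℕ) (g : Grp) : Prop :=
  g = .ominus n p ∨ g = .psp (n - 1) p ∨ g = .oodd (n - 1) p ∨ g = .ominus (n - 1) p ∨ (n = 5 ∧ g = .psu 6 p)

theorem Minus.one (P : Minus p n c) (H : Dat p 1 c g) : SurvMinus p n g := by
  have hn := P.hn
  have hodd := P.odd
  have hin : ∀ {e : ℕ}, 3 ≤ e → (In p c e ↔ K g e) := fun he => H.in_one he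
  have hN : ∀ e, 3 ≤ e → K g e → e ≤ 2 * n ∧ (e % 2 = 1 → e ≤ n - 1) := fun e he h =>
    P.ppd e he ((hin he).2 h)
  have hq := H.hq
  rw [pow_one] at hq
  have mis : ∀ k l, k ≠ l → MMinus n k → MMinus n l → ¬ K g k → ¬ K g l → False := fun k l hkl hk hl h1 h2 => by
    have hk3 : 3 ≤ k := by unfold MMinus at hk; omega
    have hl3 : 3 ≤ l := by unfold MMinus at hl; omega
    rcases P.miss k l hkl hk hl with h | h
    · exact h1 ((hin hk3).1 h)
    · exact h2 ((hin hl3).1 h)
  have mo : MMinus n (n - 2) := Or.inr ⟨by omega, by omega, by omega⟩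
  have m1 : MMinus n (2 * n) := Or.inl ⟨by omega, by omega, by omega⟩
  have m2 : MMinus n (2 * n - 2) := Or.inl ⟨by omega, by omega, by omega⟩
  have m3 : MMinus n (2 * n - 4) := Or.inl ⟨by omega, by omega, by omega⟩
  have mis1 := mis _ _ (by omega) m1 m2
  have mis2 := mis _ _ (by omega) m2 m3
  have mis3 := mis _ _ (by omega) m1 m3
  have htop := K_top H.cond H.q_ne
  cases g with
  | psl m q =>
    have hm : 2 ≤ m := H.cond.1
    have h1 : m < n := by
      by_contra hlt
      have := (hN n (by omega) (K_psl.2 (by omega))).2 hodd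
      omega
    exact (mis1 (fun h => by rw [K_psl] at h; omega) (fun h => by rw [K_psl] at h; omega)).elim
  | psp m q =>
    obtain rfl : q = p := hq
    have hm : 2 ≤ m := H.cond.1
    have h1 : 2 * m ≤ _ := (hN _ (show 3 ≤ 2 * m by omega) htop).1
    have h3 : m < n := by
      by_contra hlt
      have := (hN n (by omega) ((K_psp (by omega)).2 (by omega))).2 hodd
      omega
    have h2 : m = n - 1 := by
      by_contra hne
      exact mis1 (fun h => by rw [K_psp (by omega)] at h; omega)
        (fun h => by rw [K_psp (by omega)] at h; omega)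
    subst h2
    exact Or.inr (Or.inl rfl)
  | oodd m q =>
    obtain rfl : q = p := hq
    have hm : 3 ≤ m := H.cond.1
    have h1 : 2 * m ≤ _ := (hN _ (show 3 ≤ 2 * m by omega) htop).1
    have h3 : m < n := by
      by_contra hlt
      have := (hN n (by omega) ((K_oodd (by omega)).2 (by omega))).2 hodd
      omega
    have h2 : m = n - 1 := by
      by_contra hne
      exact mis1 (fun h => by rw [K_oodd (by omega)] at h; omega)
        (fun h => by rw [K_oodd (by omega)] at h; omega)
    subst h2
    exact Or.inr (Or.inr (Or.inl rfl))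
  | psu m q =>
    obtain rfl : q = p := hq
    have hm : 3 ≤ m := H.cond.1
    have h1 : 2 * (m - (1 - m % 2)) ≤ _ := (hN _ (show 3 ≤ 2 * (m - (1 - m % 2)) by omega) htop).1
    by_cases h5 : n = 5 ∧ m = 6
    · obtain ⟨rfl, rfl⟩ := h5
      exact Or.inr (Or.inr (Or.inr (Or.inr ⟨rfl, rfl⟩)))
    · exfalso
      exact mis _ _ (by omega) m2 mo (fun h => by rw [K_psu (by omega)] at h; (clear * - hn hodd h1 h; omega))
        (fun h => by rw [K_psu (by omega)] at h; (clear * - hn hodd h1 h5 h; omega))
  | oplus m q =>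
    have hm : 4 ≤ m := H.cond.1
    have h3 : m < n := by
      by_contra hlt
      have := (hN n (by omega) ((K_oplus (by omega) (by omega)).2 (by omega))).2 hodd
      omega
    exact (mis1 (fun h => by rw [K_oplus (by omega) (by omega)] at h; omega)
      (fun h => by rw [K_oplus (by omega) (by omega)] at h; omega)).elim
  | ominus m q =>
    obtain rfl : q = p := hq
    have hm : 4 ≤ m := H.cond.1
    have h1 : 2 * m ≤ _ := (hN _ (show 3 ≤ 2 * m by omega) htop).1
    rcases Nat.lt_or_ge m n with h2 | h2
    · have h2 : m = n - 1 := by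
        by_contra hne
        exact mis1 (fun h => by rw [K_ominus (by omega) (by omega)] at h; omega)
          (fun h => by rw [K_ominus (by omega) (by omega)] at h; omega)
      subst h2
      exact Or.inr (Or.inr (Or.inr (Or.inl rfl)))
    · obtain rfl : m = n := by omega
      exact Or.inl rfl
  | g2 q => exact (mis1 (fun h => by have := K_g2 h; omega) (fun h => by have := K_g2 h; omega)).elim
  | f4 q =>
    have h1 : 12 ≤ _ := (hN 12 (by norm_num) htop).1
    rcases Nat.lt_or_ge n 8 with h2 | h2
    · exact (mis3 (fun h => by have := K_f4 h; omega) (fun h => by have := K_f4 h; (clear * - hodd h1 this; omega))).elim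
    · exact (mis1 (fun h => by have := K_f4 h; omega) (fun h => by have := K_f4 h; omega)).elim
  | e6 q =>
    have h2 := (hN 9 (by norm_num) (Or.inr (Or.inr (Or.inr (Or.inr (Or.inl dvd_rfl)))))).2 (by norm_num)
    exact (mis1 (fun h => by have := K_e6 h; omega) (fun h => by have := K_e6 h; (clear * - h2 this; omega))).elim
  | e7 q =>
    have h2 := (hN 9 (by norm_num)
      (Or.inr (Or.inr (Or.inr (Or.inr (Or.inr (Or.inr (by decide : 9 ∣ 18)))))))).2 (by norm_num)
    exact (mis1 (fun h => by have := K_e7 h; omega) (fun h => by have := K_e7 h; omega)).elim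
  | e8 q =>
    have h2 := (hN 15 (by norm_num)
      (Or.inr (Or.inr (Or.inr (Or.inr (Or.inr (Or.inr (Or.inr (by decide : 15 ∣ 30))))))))).2 (by norm_num)
    exact (mis1 (fun h => by have := K_e8 h; (clear * - h2 this; omega)) (fun h => by have := K_e8 h; omega)).elim
  | te6 q =>
    have h1 : 18 ≤ _ := (hN 18 (by norm_num) htop).1
    rcases Nat.lt_or_ge n 10 with h2 | h2
    · exact (mis2 (fun h => by have := K_te6 h; (clear * - h1 h2 this; omega)) (fun h => by have := K_te6 h; (clear * - h1 h2 this; omega))).elim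
    · exact (mis1 (fun h => by have := K_te6 h; omega) (fun h => by have := K_te6 h; omega)).elim
  | td4 q =>
    have h1 : 12 ≤ _ := (hN 12 (by norm_num) htop).1
    rcases Nat.lt_or_ge n 8 with h2 | h2
    · exact (mis3 (fun h => by have := K_td4 h; omega) (fun h => by have := K_td4 h; omega)).elim
    · exact (mis1 (fun h => by have := K_td4 h; omega) (fun h => by have := K_td4 h; omega)).elim
  | sz q => exact (mis1 (fun h => by have := K_sz h; omega) (fun h => by have := K_sz h; omega)).elim
  | ree q => exact (mis1 (fun h => by have := K_ree h; omega) (fun h => by have := K_ree h; omega)).elim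
  | tf4 q =>
    have h1 : 12 ≤ _ := (hN 12 (by norm_num) htop).1
    rcases Nat.lt_or_ge n 8 with h2 | h2
    · exact (mis3 (fun h => by have := K_tf4 h; omega) (fun h => by have := K_tf4 h; (clear * - h1 h2 this; omega))).elim
    · exact (mis1 (fun h => by have := K_tf4 h; omega) (fun h => by have := K_tf4 h; omega)).elim
  | _ => exact absurd rfl H.q_ne

/-- **The groups of Lie type in the characteristic of `²D_n(p)`, `n` odd.** -/
theorem Minus.main (P : Minus p n c) (H : Dat p f c g) : SurvMinus p n g ∨ g = .psl (n - 1) (p ^ 2) := by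
  have h1 := P.f_le H
  have h2 := H.hf
  have h3 : f = 1 ∨ f = 2 := by omega
  rcases h3 with rfl | rfl
  · exact Or.inl (P.one H)
  · exact Or.inr (P.two H)

end Cfsg.Agent.H425.Chr
end
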